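import Mathlib.Algebra.MonoidAlgebra.Basic
import Mathlib.Analysis.Complex.Basic

/-!
# Self-adjoint idempotents of rank one in a complex group algebra
-/

set_option autoImplicit false
set_option linter.unusedSectionVars false

namespace Cfsg.Lib.Char.StableLine

open scoped ComplexConjugate
open MonoidAlgebra

universe u v

variable {E : Type u} [Group E] {F : Type v} [Group F]

local notation "ℂ[" G "]" => MonoidAlgebra ℂ G

/-- The adjoint: conjugate the coefficient and invert the group element. -/
noncomputable def adj : ℂ[E] →+ ℂ[E] where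
  toFun x := MonoidAlgebra.ofCoeff
    (Finsupp.mapRange conj (map_zero _) (Finsupp.equivMapDomain (Equiv.inv E) x.coeff))
  map_zero' := by ext g; simp
  map_add' x y := by ext g; simp

theorem coeff_adj (x : ℂ[E]) (g : E) : (adj x).coeff g = conj (x.coeff g⁻¹) := by
  simp [adj]

theorem adj_single (g : E) (r : ℂ) : adj (single g r) = single g⁻¹ (conj r) := by
  ext h
  rw [coeff_adj]
  classical
  simp only [coeff_single, Finsupp.single_apply]
  by_cases hh : g = h⁻¹
  · subst hh; simp
  · rw [if_neg hh, if_neg (fun h1 => hh (by rw [← h1, inv_inv])), map_zero]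

theorem adj_adj (x : ℂ[E]) : adj (adj x) = x := by
  ext g; simp [coeff_adj]

theorem adj_mul (x y : ℂ[E]) : adj (x * y) = adj y * adj x := by
  induction x using MonoidAlgebra.induction_linear with
  | zero => simp
  | add a b ha hb => simp [add_mul, mul_add, ha, hb]
  | single g r =>
    induction y using MonoidAlgebra.induction_linear with
    | zero => simp
    | add a b ha hb => simp [add_mul, mul_add, ha, hb]
    | single h s =>
      rw [MonoidAlgebra.single_mul_single, adj_single, adj_single, adj_single,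
        MonoidAlgebra.single_mul_single, mul_inv_rev, map_mul, mul_comm (conj s)]

theorem adj_smul (c : ℂ) (x : ℂ[E]) : adj (c • x) = conj c • adj x := by
  ext g; simp [coeff_adj]

theorem adj_of (g : E) : adj (of ℂ E g) = of ℂ E g⁻¹ := by
  simp only [MonoidAlgebra.of_apply, adj_single, map_one]

theorem adj_map (f : E →* F) (x : ℂ[E]) :
    adj (mapDomainAlgHom ℂ ℂ f x) = mapDomainAlgHom ℂ ℂ f (adj x) := by
  induction x using MonoidAlgebra.induction_linear with
  | zero => simp
  | add a b ha hb => simp only [map_add, ha, hb]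
  | single g r => simp [adj_single]

theorem adj_domCongr (f : E ≃* F) (x : ℂ[E]) :
    adj (domCongr ℂ ℂ f x) = domCongr ℂ ℂ f (adj x) := by
  ext g; simp [coeff_adj]

theorem coeff_domCongr_one (f : E ≃* F) (x : ℂ[E]) :
    (domCongr ℂ ℂ f x).coeff 1 = x.coeff 1 := by simp

section Fintype

variable [Fintype E]

theorem coeff_mul_one (x y : ℂ[E]) : (x * y).coeff 1 = ∑ g, x.coeff g * y.coeff g⁻¹ := by
  induction x using MonoidAlgebra.induction_linear with
  | zero => simp
  | add a b ha hb => simp [add_mul, ha, hb, Finset.sum_add_distrib]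
  | single h r =>
    classical
    rw [Finset.sum_eq_single h]
    · rw [coeff_single_mul_eq_mul_coeff h⁻¹]
      · simp
      · intro m _
        exact ⟨fun e => eq_inv_of_mul_eq_one_right e, fun e => by rw [e, mul_inv_cancel]⟩
    · intro g _ hg
      simp [coeff_single, Finsupp.single_apply, Ne.symm hg]
    · simp

theorem coeff_mul_comm_one (x y : ℂ[E]) : (x * y).coeff 1 = (y * x).coeff 1 := by
  rw [coeff_mul_one, coeff_mul_one]
  refine Fintype.sum_equiv (Equiv.inv E) _ _ fun g => ?_
  simp [mul_comm]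

theorem coeff_mul_adj_one (x : ℂ[E]) :
    (x * adj x).coeff 1 = ((∑ g, Complex.normSq (x.coeff g) : ℝ) : ℂ) := by
  rw [coeff_mul_one, Complex.ofReal_sum]
  refine Finset.sum_congr rfl fun g _ => ?_
  rw [coeff_adj, inv_inv, Complex.mul_conj]

theorem coeff_mul_adj_pos {x : ℂ[E]} (hx : x ≠ 0) :
    ∃ r : ℝ, 0 < r ∧ (x * adj x).coeff 1 = (r : ℂ) := by
  refine ⟨_, ?_, coeff_mul_adj_one x⟩
  obtain ⟨g, hg⟩ : ∃ g, x.coeff g ≠ 0 := by
    by_contra h
    push Not at h
    exact hx (by ext g; simpa using h g)
  exact Finset.sum_pos' (fun i _ => Complex.normSq_nonneg _)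
    ⟨g, Finset.mem_univ g, Complex.normSq_pos.mpr hg⟩

end Fintype

theorem of_comm {z : E} (hz : ∀ x : E, z * x = x * z) (w : ℂ[E]) :
    of ℂ E z * w = w * of ℂ E z := by
  induction w using MonoidAlgebra.induction_linear with
  | zero => simp
  | add x y hx hy => simp only [mul_add, add_mul, hx, hy]
  | single g r => simp [hz g]

/-- A non-zero self-adjoint idempotent in the faithful part whose corner is one-dimensional. -/
structure RankOne (z : E) (P : ℂ[E]) : Prop where
  ne_zero : P ≠ 0
  adj_eq : adj P = P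
  minus : of ℂ E z * P = -P
  idem : P * P = P
  corner : ∀ x : ℂ[E], ∃ c : ℂ, P * x * P = c • P

/-- It suffices to check the corner on group elements. -/
theorem corner_of_group {P : ℂ[E]} (h : ∀ g : E, ∃ c : ℂ, P * of ℂ E g * P = c • P) (x : ℂ[E]) :
    ∃ c : ℂ, P * x * P = c • P := by
  induction x using MonoidAlgebra.induction_linear with
  | zero => exact ⟨0, by simp⟩
  | add a b ha hb =>
    obtain ⟨c, hc⟩ := ha
    obtain ⟨d, hd⟩ := hb
    exact ⟨c + d, by rw [mul_add, add_mul, hc, hd, add_smul]⟩
  | single g r =>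
    obtain ⟨c, hc⟩ := h g
    refine ⟨r * c, ?_⟩
    rw [show single g r = r • of ℂ E g by simp, Algebra.mul_smul_comm, Algebra.smul_mul_assoc,
      hc, smul_smul]

namespace RankOne

variable {z : E} {P : ℂ[E]}

theorem domCongr (f : E ≃* E) (hf : f z = z) (h : RankOne z P) :
    RankOne z (MonoidAlgebra.domCongr ℂ ℂ f P) where
  ne_zero h0 := h.ne_zero ((MonoidAlgebra.domCongr ℂ ℂ f).injective (by rw [h0, map_zero]))
  adj_eq := by rw [adj_domCongr, h.adj_eq]
  minus := by
    have := congrArg (MonoidAlgebra.domCongr ℂ ℂ f) h.minus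
    rw [map_mul, map_neg] at this
    rwa [MonoidAlgebra.of_apply, domCongr_single, hf] at this
  idem := by rw [← map_mul, h.idem]
  corner x := by
    obtain ⟨c, hc⟩ := h.corner ((MonoidAlgebra.domCongr ℂ ℂ f).symm x)
    refine ⟨c, ?_⟩
    have := congrArg (MonoidAlgebra.domCongr ℂ ℂ f) hc
    rwa [map_mul, map_mul, AlgEquiv.apply_symm_apply, map_smul] at this

theorem coeff_one_pos [Fintype E] (h : RankOne z P) :
    ∃ r : ℝ, 0 < r ∧ P.coeff 1 = (r : ℂ) := by
  obtain ⟨r, hr, he⟩ := coeff_mul_adj_pos h.ne_zero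
  exact ⟨r, hr, by rwa [h.adj_eq, h.idem] at he⟩

theorem coeff_one_ne_zero [Fintype E] (h : RankOne z P) : P.coeff 1 ≠ 0 := by
  obtain ⟨r, hr, he⟩ := h.coeff_one_pos
  rw [he]; exact_mod_cast hr.ne'

/-- A non-zero vector in the left ideal of a rank one idempotent gives another one. -/
theorem of_vec [Fintype E] (hz : ∀ x : E, z * x = x * z) (h : RankOne z P) {w : ℂ[E]} (hw : w ≠ 0)
    (hwP : w * P = w) :
    ∃ r : ℝ, 0 < r ∧ RankOne z ((r : ℂ) • (w * adj w)) := by
  obtain ⟨c, hc⟩ := h.corner (adj w * w)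
  have hPw : P * adj w = adj w := by
    have := congrArg adj hwP
    rwa [adj_mul, h.adj_eq] at this
  have hww : adj w * w = c • P := by
    rw [← hc, ← mul_assoc, hPw, mul_assoc, hwP]
  obtain ⟨a, ha, hae⟩ := coeff_mul_adj_pos hw
  obtain ⟨b, hb, hbe⟩ := h.coeff_one_pos
  have hcr : c = ((a / b : ℝ) : ℂ) := by
    have h1 := congrArg (fun x : ℂ[E] => x.coeff 1) hww
    simp only [coeff_mul_comm_one (adj w) w, hae, coeff_smul, Finsupp.smul_apply, hbe,
      smul_eq_mul] at h1
    rw [Complex.ofReal_div, eq_div_iff (by exact_mod_cast hb.ne'), h1]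
  have hc0 : c ≠ 0 := by rw [hcr]; exact_mod_cast (div_pos ha hb).ne'
  refine ⟨b / a, div_pos hb ha, ?_, ?_, ?_, ?_, ?_⟩
  · intro h0
    have := congrArg (fun x : ℂ[E] => x.coeff 1) h0
    simp [hae, ha.ne', hb.ne'] at this
  · rw [adj_smul, adj_mul, adj_adj, Complex.conj_ofReal]
  · have hzw : of ℂ E z * w = -w := by
      rw [of_comm hz]
      nth_rewrite 1 [← hwP]
      rw [mul_assoc]
      have : P * of ℂ E z = -P := by
        have := congrArg adj h.minus
        rw [adj_mul, h.adj_eq, adj_of, map_neg, h.adj_eq] at this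
        have h2 := congrArg (· * of ℂ E z) this
        simp only [mul_assoc, ← map_mul, inv_mul_cancel, map_one, mul_one, neg_mul] at h2
        rw [← neg_eq_iff_eq_neg, ← h2]
      rw [this, mul_neg, hwP]
    rw [Algebra.mul_smul_comm, ← mul_assoc, hzw, neg_mul, smul_neg]
  · rw [Algebra.smul_mul_assoc, Algebra.mul_smul_comm, smul_smul]
    rw [show w * adj w * (w * adj w) = w * (adj w * w) * adj w by simp only [mul_assoc]]
    rw [hww, Algebra.mul_smul_comm, hwP, Algebra.smul_mul_assoc, smul_smul, hcr]
    congr 1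
    push_cast
    field_simp [ha.ne', hb.ne']
  · intro x
    obtain ⟨d, hd⟩ := h.corner (adj w * x * w)
    refine ⟨((b / a : ℝ) : ℂ) * d, ?_⟩
    have e : w * adj w * x * (w * adj w) = d • (w * adj w) := by
      rw [show w * adj w * x * (w * adj w) = w * (adj w * x * w) * adj w by simp only [mul_assoc]]
      have e2 : adj w * x * w = d • P := by
        rw [← hd, show P * (adj w * x * w) * P = (P * adj w) * x * (w * P) by simp only [mul_assoc],
          hPw, hwP]
      rw [e2, Algebra.mul_smul_comm, hwP, Algebra.smul_mul_assoc]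
    rw [Algebra.smul_mul_assoc, Algebra.smul_mul_assoc, Algebra.mul_smul_comm, e, smul_smul,
      smul_smul, smul_smul]
    congr 1
    ring

end RankOne

end Cfsg.Lib.Char.StableLine
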