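import Mathlib.LinearAlgebra.BilinearForm.Orthogonal
import Mathlib.Algebra.Module.ZMod
import Mathlib.GroupTheory.QuotientGroup.Basic
import Mathlib.GroupTheory.FiniteAbelian.Duality
import Mathlib.RingTheory.RootsOfUnity.Complex
import Mathlib.Data.ZMod.Basic
import Mathlib.Algebra.Field.ZMod
import Mathlib.LinearAlgebra.FiniteDimensional.Basic

/-!
# Two-groups with a derived group of order two and small centre
-/

set_option autoImplicit false
set_option linter.unusedSectionVars false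
set_option linter.style.haveILetI false

namespace Cfsg.Lib.Char.StableLine

universe u v

variable {E : Type u} [Group E]

/-- Squares and commutators lie in the centre `{1, z}` of order two. -/
structure ExData (z : E) : Prop where
  ne_one : z ≠ 1
  sq_z : z * z = 1
  central : ∀ x : E, z * x = x * z
  sq : ∀ x : E, x * x = 1 ∨ x * x = z
  comm : ∀ x y : E, x * y = y * x ∨ x * y = y * x * z
  centre : ∀ x : E, (∀ y : E, x * y = y * x) → x = 1 ∨ x = z

theorem zmod_two_cases (a : ZMod 2) : a = 0 ∨ a = 1 := by revert a; decide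

namespace ExData

variable {z : E} (hE : ExData z)

/-- The power of `z` with exponent in `ZMod 2`. -/
def zp (z : E) (a : ZMod 2) : E := if a = 0 then 1 else z

theorem zp_zero (z : E) : zp z 0 = 1 := by simp [zp]
theorem zp_one (z : E) : zp z 1 = z := by simp [zp]

include hE

theorem zp_add (a b : ZMod 2) : zp z (a + b) = zp z a * zp z b := by
  rcases zmod_two_cases a with rfl | rfl <;> rcases zmod_two_cases b with rfl | rfl <;>
    simp [zp, hE.sq_z, show (1 : ZMod 2) + 1 = 0 by decide]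

theorem zp_inj {a b : ZMod 2} (h : zp z a = zp z b) : a = b := by
  rcases zmod_two_cases a with rfl | rfl <;> rcases zmod_two_cases b with rfl | rfl <;>
    simp [zp] at h <;> first | rfl | exact absurd h hE.ne_one | exact absurd h.symm hE.ne_one

theorem zp_comm (a : ZMod 2) (x : E) : zp z a * x = x * zp z a := by
  rcases zmod_two_cases a with rfl | rfl <;> simp [zp, hE.central]

theorem inv_z : z⁻¹ = z := inv_eq_of_mul_eq_one_right hE.sq_z

theorem map_eq {F : Type v} [Group F] {w : F} (hF : ExData w) (f : E ≃* F) : f z = w := by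
  have h : ∀ y, f z * y = y * f z := fun y => by
    obtain ⟨x, rfl⟩ := f.surjective y
    rw [← map_mul, ← map_mul, hE.central]
  rcases hF.centre (f z) h with h1 | h1
  · exact absurd (f.injective (h1.trans f.map_one.symm)) hE.ne_one
  · exact h1

theorem auto_fix (f : E ≃* E) : f z = z := hE.map_eq hE f

theorem auto_zp (f : E ≃* E) (a : ZMod 2) : f (zp z a) = zp z a := by
  rcases zmod_two_cases a with rfl | rfl <;> simp [zp, hE.auto_fix]

theorem exists_cm (x y : E) : ∃ a : ZMod 2, x * y = y * x * zp z a := by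
  rcases hE.comm x y with h | h
  · exact ⟨0, by rw [zp_zero, mul_one, h]⟩
  · exact ⟨1, by rw [zp_one, h]⟩

theorem exists_sqv (x : E) : ∃ a : ZMod 2, x * x = zp z a := by
  rcases hE.sq x with h | h
  · exact ⟨0, by rw [zp_zero, h]⟩
  · exact ⟨1, by rw [zp_one, h]⟩

/-- The exponent of the commutator. -/
noncomputable def cm (x y : E) : ZMod 2 := (hE.exists_cm x y).choose

theorem cm_spec (x y : E) : x * y = y * x * zp z (hE.cm x y) := (hE.exists_cm x y).choose_spec

theorem cm_unique {x y : E} {a : ZMod 2} (h : x * y = y * x * zp z a) : hE.cm x y = a :=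
  hE.zp_inj (mul_left_cancel ((hE.cm_spec x y).symm.trans h))

theorem cm_eq_zero {x y : E} : hE.cm x y = 0 ↔ x * y = y * x :=
  ⟨fun h => by rw [hE.cm_spec x y, h, zp_zero, mul_one],
    fun h => hE.cm_unique (by rw [zp_zero, mul_one, h])⟩

theorem cm_mul (x x' y : E) : hE.cm (x * x') y = hE.cm x y + hE.cm x' y := by
  refine hE.cm_unique ?_
  calc x * x' * y = x * (y * x' * zp z (hE.cm x' y)) := by rw [mul_assoc, ← hE.cm_spec]
    _ = (x * y) * x' * zp z (hE.cm x' y) := by simp only [mul_assoc]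
    _ = y * x * (zp z (hE.cm x y) * x') * zp z (hE.cm x' y) := by
      conv_lhs => rw [hE.cm_spec x y]
      simp only [mul_assoc]
    _ = _ := by rw [hE.zp_comm, hE.zp_add]; simp only [mul_assoc]

theorem cm_symm (x y : E) : hE.cm x y = hE.cm y x := by
  refine hE.cm_unique ?_
  rw [hE.cm_spec y x, mul_assoc (x * y), ← hE.zp_add, CharTwo.add_self_eq_zero, zp_zero, mul_one]

theorem cm_auto (f : E ≃* E) (x y : E) : hE.cm (f x) (f y) = hE.cm x y := by
  refine hE.cm_unique ?_
  rw [← map_mul, hE.cm_spec x y, map_mul, map_mul, hE.auto_zp]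

/-- The exponent of the square. -/
noncomputable def sqv (x : E) : ZMod 2 := (hE.exists_sqv x).choose

theorem sqv_spec (x : E) : x * x = zp z (hE.sqv x) := (hE.exists_sqv x).choose_spec

theorem sqv_unique {x : E} {a : ZMod 2} (h : x * x = zp z a) : hE.sqv x = a :=
  hE.zp_inj ((hE.sqv_spec x).symm.trans h)

theorem sqv_mul (x y : E) : hE.sqv (x * y) = hE.sqv x + hE.sqv y + hE.cm x y := by
  refine hE.sqv_unique ?_
  calc x * y * (x * y) = x * (y * x) * y := by simp only [mul_assoc]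
    _ = x * (x * y * zp z (hE.cm y x)) * y := by rw [← hE.cm_spec]
    _ = x * x * (y * y) * zp z (hE.cm y x) := by
      simp only [mul_assoc, hE.zp_comm]
    _ = _ := by rw [hE.sqv_spec x, hE.sqv_spec y, hE.zp_add, hE.zp_add, hE.cm_symm y x]

theorem sqv_auto (f : E ≃* E) (x : E) : hE.sqv (f x) = hE.sqv x :=
  hE.sqv_unique (by rw [← map_mul, hE.sqv_spec x, hE.auto_zp])

theorem normal_of_mem {U : Subgroup E} (hU : z ∈ U) : U.Normal := by
  refine ⟨fun x hx g => ?_⟩
  rw [hE.cm_spec g x, mul_assoc, mul_assoc, hE.zp_comm, ← mul_assoc g, mul_inv_cancel, one_mul]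
  refine mul_mem hx ?_
  rcases zmod_two_cases (hE.cm g x) with h | h <;> rw [h] <;> simp [zp, hU, U.one_mem]

end ExData

/-- The symplectic space of such a group with its quadratic map. -/
structure Quad {E : Type u} [Group E] {z : E} (hE : ExData z) where
  V : Type u
  [grp : AddCommGroup V]
  [mod : Module (ZMod 2) V]
  [fin : Finite V]
  π : E → V
  surj : Function.Surjective π
  map_mul : ∀ x y, π (x * y) = π x + π y
  eq_zero : ∀ x, π x = 0 ↔ x = 1 ∨ x = z
  B : LinearMap.BilinForm (ZMod 2) V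
  B_π : ∀ x y, B (π x) (π y) = hE.cm x y
  q : V → ZMod 2
  q_π : ∀ x, q (π x) = hE.sqv x

attribute [instance] Quad.grp Quad.mod Quad.fin

theorem exists_quad [Finite E] {z : E} (hE : ExData z) : Nonempty (Quad hE) := by
  have hZ : ∀ x : E, x ∈ Subgroup.zpowers z ↔ x = 1 ∨ x = z := by
    intro x
    constructor
    · rintro ⟨i, rfl⟩
      rcases Int.even_or_odd' i with ⟨k, rfl | rfl⟩
      · left; simp [zpow_mul, zpow_ofNat, pow_two, hE.sq_z]
      · right; simp [zpow_add, zpow_mul, zpow_ofNat, pow_two, hE.sq_z]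
    · rintro (rfl | rfl)
      · exact one_mem _
      · exact Subgroup.mem_zpowers _
  haveI := hE.normal_of_mem (Subgroup.mem_zpowers z)
  have hex : ∀ w : E ⧸ Subgroup.zpowers z, w * w = 1 := by
    intro w
    obtain ⟨x, rfl⟩ := QuotientGroup.mk_surjective w
    rw [← QuotientGroup.mk_mul, QuotientGroup.eq_one_iff, hZ]
    exact hE.sq x
  letI : CommGroup (E ⧸ Subgroup.zpowers z) :=
    { (inferInstance : Group (E ⧸ Subgroup.zpowers z)) with
      mul_comm := fun a b => by
        have hinv : ∀ w : E ⧸ Subgroup.zpowers z, w⁻¹ = w := fun w => inv_eq_of_mul_eq_one_right (hex w)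
        calc a * b = (a * b)⁻¹ := (hinv _).symm
          _ = b * a := by rw [mul_inv_rev, hinv, hinv] }
  let V := Additive (E ⧸ Subgroup.zpowers z)
  letI : Module (ZMod 2) V := AddCommGroup.zmodModule fun v => by
    rw [two_nsmul]; exact congrArg Additive.ofMul (hex v.toMul)
  let π : E → V := fun x => Additive.ofMul (QuotientGroup.mk x)
  have hsurj : Function.Surjective π := fun v => by
    obtain ⟨x, hx⟩ := QuotientGroup.mk_surjective v.toMul
    exact ⟨x, by simp [π, hx]⟩
  have hmul : ∀ x y, π (x * y) = π x + π y := fun x y => rfl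
  have h0 : ∀ x, π x = 0 ↔ x = 1 ∨ x = z := fun x => by
    rw [← hZ, ← QuotientGroup.eq_one_iff]; exact Iff.rfl
  have hlift : ∀ {M : Type} [AddCommGroup M] [Module (ZMod 2) M] (g : E → M),
      (∀ x y, g (x * y) = g x + g y) → g z = 0 →
        ∃ L : V →ₗ[ZMod 2] M, ∀ x, L (π x) = g x := by
    intro M _ _ g hg hgz
    let h : E →* Multiplicative M := MonoidHom.mk' (fun x => Multiplicative.ofAdd (g x))
      (fun x y => by rw [hg]; rfl)
    have hk : Subgroup.zpowers z ≤ h.ker := Subgroup.zpowers_le.mpr (by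
      show Multiplicative.ofAdd (g z) = 1
      rw [hgz]; rfl)
    let h' := QuotientGroup.lift _ h hk
    let L₀ : V →+ M := MonoidHom.toAdditiveLeft h'
    exact ⟨L₀.toZModLinearMap 2, fun x => rfl⟩
  -- the form, one variable at a time
  have h1 : ∀ x : E, ∃ L : V →ₗ[ZMod 2] ZMod 2, ∀ y, L (π y) = hE.cm x y := fun x => by
    refine hlift (fun y => hE.cm x y) (fun y y' => ?_) ?_
    · rw [hE.cm_symm x, hE.cm_mul, hE.cm_symm y, hE.cm_symm y']
    · exact hE.cm_eq_zero.mpr (hE.central x).symm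
  choose L hL using h1
  let g : V → (V →ₗ[ZMod 2] ZMod 2) := fun v => L (Function.surjInv hsurj v)
  have hg : ∀ v y, g v (π y) = hE.cm (Function.surjInv hsurj v) y := fun v y => hL _ y
  have hrep : ∀ x y, hE.cm (Function.surjInv hsurj (π x)) y = hE.cm x y := by
    intro x y
    have : π (x⁻¹ * Function.surjInv hsurj (π x)) = 0 := by
      rw [hmul, Function.surjInv_eq hsurj, ← hmul, inv_mul_cancel]; exact (h0 1).mpr (Or.inl rfl)
    have hc : hE.cm (x⁻¹ * Function.surjInv hsurj (π x)) y = 0 := by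
      rw [hE.cm_eq_zero]
      rcases (h0 _).mp this with h | h <;> rw [h]
      · simp
      · exact hE.central y
    have := hE.cm_mul x (x⁻¹ * Function.surjInv hsurj (π x)) y
    rwa [mul_inv_cancel_left, hc, add_zero] at this
  have hgadd : ∀ v w, g (v + w) = g v + g w := by
    intro v w
    obtain ⟨x, rfl⟩ := hsurj v
    obtain ⟨x', rfl⟩ := hsurj w
    refine LinearMap.ext fun u => ?_
    obtain ⟨y, rfl⟩ := hsurj u
    rw [← hmul, LinearMap.add_apply, hg, hg, hg, hrep, hrep, hrep, hE.cm_mul]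
  let B₀ : V →+ (V →ₗ[ZMod 2] ZMod 2) := AddMonoidHom.mk' g hgadd
  refine ⟨{ V := V, π := π, surj := hsurj, map_mul := hmul, eq_zero := h0
            B := B₀.toZModLinearMap 2
            B_π := fun x y => by
              show g (π x) (π y) = _
              rw [hg, hrep]
            q := fun v => hE.sqv (Function.surjInv hsurj v)
            q_π := fun x => ?_ }⟩
  have : π (x⁻¹ * Function.surjInv hsurj (π x)) = 0 := by
    rw [hmul, Function.surjInv_eq hsurj, ← hmul, inv_mul_cancel]; exact (h0 1).mpr (Or.inl rfl)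
  have e : Function.surjInv hsurj (π x) = x * (x⁻¹ * Function.surjInv hsurj (π x)) :=
    (mul_inv_cancel_left _ _).symm
  show hE.sqv _ = _
  rw [e, hE.sqv_mul]
  rcases (h0 _).mp this with h | h <;> rw [h]
  · rw [hE.sqv_unique (a := 0) (x := 1) (by rw [ExData.zp_zero, mul_one]),
      hE.cm_eq_zero.mpr (by simp), add_zero, add_zero]
  · rw [hE.sqv_unique (a := 0) (x := z) (by rw [ExData.zp_zero, hE.sq_z]),
      hE.cm_eq_zero.mpr (hE.central x).symm, add_zero, add_zero]

namespace Quad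

variable {z : E} {hE : ExData z} (Q : Quad hE)

theorem π_one : Q.π 1 = 0 := (Q.eq_zero 1).mpr (Or.inl rfl)

theorem π_inv (x : E) : Q.π x⁻¹ = Q.π x := by
  rw [← ZModModule.neg_eq_self (Q.π x), eq_neg_iff_add_eq_zero, ← Q.map_mul, inv_mul_cancel, π_one]

theorem π_eq {x y : E} (h : Q.π x = Q.π y) : x = y ∨ x = y * z := by
  have h1 : Q.π (y⁻¹ * x) = 0 := by rw [Q.map_mul, π_inv, h, ZModModule.add_self]
  rcases (Q.eq_zero _).mp h1 with h2 | h2
  · left; exact (inv_mul_eq_one.mp h2).symm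
  · right; rw [← h2, mul_inv_cancel_left]

theorem B_symm (v w : Q.V) : Q.B v w = Q.B w v := by
  obtain ⟨x, rfl⟩ := Q.surj v
  obtain ⟨y, rfl⟩ := Q.surj w
  rw [Q.B_π, Q.B_π, hE.cm_symm]

theorem isRefl : Q.B.IsRefl := fun v w h => by rwa [Q.B_symm]

theorem nondeg : Q.B.Nondegenerate := by
  refine Q.isRefl.nondegenerate_iff_separatingLeft.mpr fun v hv => ?_
  obtain ⟨x, rfl⟩ := Q.surj v
  refine (Q.eq_zero x).mpr (hE.centre x fun y => ?_)
  rw [← hE.cm_eq_zero, ← Q.B_π]; exact hv _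

theorem q_polar (v w : Q.V) : Q.q (v + w) = Q.q v + Q.q w + Q.B v w := by
  obtain ⟨x, rfl⟩ := Q.surj v
  obtain ⟨y, rfl⟩ := Q.surj w
  rw [← Q.map_mul, Q.q_π, Q.q_π, Q.q_π, Q.B_π, hE.sqv_mul]

/-- The image of a subgroup. -/
noncomputable def img (U : Subgroup E) : Submodule (ZMod 2) Q.V :=
  AddSubgroup.toZModSubmodule 2
    { carrier := Q.π '' U
      zero_mem' := ⟨1, U.one_mem, Q.π_one⟩
      add_mem' := by
        rintro _ _ ⟨x, hx, rfl⟩ ⟨y, hy, rfl⟩
        exact ⟨x * y, U.mul_mem hx hy, Q.map_mul x y⟩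
      neg_mem' := by
        rintro _ ⟨x, hx, rfl⟩
        exact ⟨x⁻¹, U.inv_mem hx, by rw [Q.π_inv, ZModModule.neg_eq_self]⟩ }

theorem mem_img {U : Subgroup E} {v : Q.V} : v ∈ Q.img U ↔ ∃ x ∈ U, Q.π x = v := Iff.rfl

theorem π_mem_img {U : Subgroup E} (hU : z ∈ U) {x : E} : Q.π x ∈ Q.img U ↔ x ∈ U := by
  refine ⟨fun h => ?_, fun h => ⟨x, h, rfl⟩⟩
  obtain ⟨y, hy, h1⟩ := Q.mem_img.mp h
  rcases Q.π_eq h1.symm with rfl | rfl
  · exact hy
  · exact mul_mem hy hU

/-- The preimage of a subspace. -/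
def pre (W : Submodule (ZMod 2) Q.V) : Subgroup E where
  carrier := {x | Q.π x ∈ W}
  one_mem' := by simp [Q.π_one]
  mul_mem' := fun {a b} ha hb => by
    show Q.π (a * b) ∈ W
    rw [Q.map_mul]; exact add_mem ha hb
  inv_mem' := fun {a} ha => by
    show Q.π a⁻¹ ∈ W
    rw [Q.π_inv]; exact ha

theorem mem_pre {W : Submodule (ZMod 2) Q.V} {x : E} : x ∈ Q.pre W ↔ Q.π x ∈ W := Iff.rfl

theorem z_mem_pre (W : Submodule (ZMod 2) Q.V) : z ∈ Q.pre W := by
  rw [mem_pre, (Q.eq_zero z).mpr (Or.inr rfl)]; exact W.zero_mem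

theorem img_centralizer (U : Subgroup E) :
    Q.img (Subgroup.centralizer (U : Set E)) = Q.B.orthogonal (Q.img U) := by
  ext v
  obtain ⟨x, rfl⟩ := Q.surj v
  have hz : z ∈ Subgroup.centralizer (U : Set E) :=
    Subgroup.mem_centralizer_iff.mpr fun h _ => (hE.central h).symm
  rw [Q.π_mem_img hz, Subgroup.mem_centralizer_iff, LinearMap.BilinForm.mem_orthogonal_iff]
  constructor
  · rintro h w ⟨y, hy, rfl⟩
    show Q.B (Q.π y) (Q.π x) = 0
    rw [Q.B_π, hE.cm_eq_zero]; exact h y hy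
  · intro h y hy
    rw [← hE.cm_eq_zero, ← Q.B_π]; exact h _ ⟨y, hy, rfl⟩

include Q in
/-- The double centralizer theorem. -/
theorem mem_of_commutes {U : Subgroup E} (hU : z ∈ U) {x : E}
    (h : ∀ y, (∀ u ∈ U, u * y = y * u) → y * x = x * y) : x ∈ U := by
  have hoo : Q.B.orthogonal (Q.B.orthogonal (Q.img U)) = Q.img U :=
    LinearMap.BilinForm.orthogonal_orthogonal (B := Q.B) Q.nondeg Q.isRefl (Q.img U)
  have hm : Q.π x ∈ Q.B.orthogonal (Q.B.orthogonal (Q.img U)) → x ∈ U := fun h1 => by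
    rw [hoo] at h1; exact (Q.π_mem_img hU).mp h1
  apply hm
  rw [← Q.img_centralizer, LinearMap.BilinForm.mem_orthogonal_iff]
  rintro w ⟨y, hy, rfl⟩
  show Q.B (Q.π y) (Q.π x) = 0
  rw [Q.B_π, hE.cm_eq_zero]
  exact h y (Subgroup.mem_centralizer_iff.mp hy)

include Q in
/-- A subgroup meeting its centralizer in the centre splits the group. -/
theorem exists_mul_of_split {U : Subgroup E} (hU : z ∈ U)
    (h : ∀ x ∈ U, (∀ u ∈ U, u * x = x * u) → x = 1 ∨ x = z) (x : E) :
    ∃ u ∈ U, ∃ c, (∀ u' ∈ U, u' * c = c * u') ∧ x = u * c := by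
  have hd : Disjoint (Q.img U) (Q.B.orthogonal (Q.img U)) := by
    rw [Submodule.disjoint_def]
    rintro _ ⟨u, hu, rfl⟩ hv
    rw [← Q.img_centralizer] at hv
    obtain ⟨c, hc, hcu⟩ := Q.mem_img.mp hv
    refine (Q.eq_zero u).mpr (h u hu fun u' hu' => ?_)
    rw [← hE.cm_eq_zero, ← Q.B_π, ← hcu, Q.B_π, hE.cm_eq_zero]
    exact Subgroup.mem_centralizer_iff.mp hc u' hu'
  have hc := (LinearMap.BilinForm.isCompl_orthogonal_iff_disjoint Q.isRefl).mpr hd
  obtain ⟨a, ha, b, hb, hab⟩ :=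
    Submodule.mem_sup.mp (hc.sup_eq_top ▸ Submodule.mem_top (x := Q.π x))
  obtain ⟨u, hu, rfl⟩ := Q.mem_img.mp ha
  rw [← Q.img_centralizer] at hb
  obtain ⟨c, hc', rfl⟩ := Q.mem_img.mp hb
  rw [← Q.map_mul] at hab
  rcases Q.π_eq hab.symm with h1 | h1
  · exact ⟨u, hu, c, Subgroup.mem_centralizer_iff.mp hc', h1⟩
  · refine ⟨u * z, mul_mem hu hU, c, Subgroup.mem_centralizer_iff.mp hc', ?_⟩
    rw [h1, mul_assoc, mul_assoc, hE.central c]

/-- The map induced by an automorphism. -/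
noncomputable def act : MulAut E →* (Q.V ≃ₗ[ZMod 2] Q.V) :=
  have key : ∀ (f : MulAut E) {x y : E}, Q.π x = Q.π y → Q.π (f x) = Q.π (f y) := by
    intro f x y h
    rcases Q.π_eq h with rfl | rfl
    · rfl
    · rw [_root_.map_mul f, Q.map_mul, hE.auto_fix f, (Q.eq_zero z).mpr (Or.inr rfl), add_zero]
  have hsp : ∀ (f : MulAut E) (v : Q.V) {x : E}, Q.π x = v →
      Q.π (f (Function.surjInv Q.surj v)) = Q.π (f x) :=
    fun f v {x} h => key f (by rw [Function.surjInv_eq Q.surj, h])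
  let mk : MulAut E → (Q.V →ₗ[ZMod 2] Q.V) := fun f =>
    (AddMonoidHom.mk' (fun v => Q.π (f (Function.surjInv Q.surj v))) fun v w => by
      obtain ⟨x, rfl⟩ := Q.surj v
      obtain ⟨y, rfl⟩ := Q.surj w
      rw [← Q.map_mul, hsp f _ rfl, hsp f _ rfl, hsp f _ rfl, _root_.map_mul f, Q.map_mul]
      ).toZModLinearMap 2
  have mk_π : ∀ f x, mk f (Q.π x) = Q.π (f x) := fun f x => hsp f _ rfl
  { toFun := fun f => LinearEquiv.ofLinearMap (mk f) (mk f⁻¹)
      (LinearMap.ext fun v => by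
        obtain ⟨x, rfl⟩ := Q.surj v
        rw [LinearMap.comp_apply, mk_π, mk_π, MulAut.apply_inv_self]; rfl)
      (LinearMap.ext fun v => by
        obtain ⟨x, rfl⟩ := Q.surj v
        rw [LinearMap.comp_apply, mk_π, mk_π, MulAut.inv_apply_self]; rfl)
    map_one' := LinearEquiv.ext fun v => by
      obtain ⟨x, rfl⟩ := Q.surj v
      exact mk_π 1 x
    map_mul' := fun f g => LinearEquiv.ext fun v => by
      obtain ⟨x, rfl⟩ := Q.surj v
      show mk (f * g) (Q.π x) = mk f (mk g (Q.π x))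
      rw [mk_π, mk_π, mk_π]; rfl }

theorem act_π (f : MulAut E) (x : E) : Q.act f (Q.π x) = Q.π (f x) := by
  show Q.π (f (Function.surjInv Q.surj (Q.π x))) = _
  rcases Q.π_eq (Function.surjInv_eq Q.surj (Q.π x)) with h | h <;> rw [h]
  rw [_root_.map_mul f, Q.map_mul, hE.auto_fix f, (Q.eq_zero z).mpr (Or.inr rfl), add_zero]

theorem B_act (f : MulAut E) (v w : Q.V) : Q.B (Q.act f v) (Q.act f w) = Q.B v w := by
  obtain ⟨x, rfl⟩ := Q.surj v
  obtain ⟨y, rfl⟩ := Q.surj w
  rw [Q.act_π, Q.act_π, Q.B_π, Q.B_π, hE.cm_auto]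

theorem q_act (f : MulAut E) (v : Q.V) : Q.q (Q.act f v) = Q.q v := by
  obtain ⟨x, rfl⟩ := Q.surj v
  rw [Q.act_π, Q.q_π, Q.q_π, hE.sqv_auto]

end Quad

end Cfsg.Lib.Char.StableLine
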