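import Cfsg.Agent.Lib.Char.StableLine.Steps
import Mathlib.FieldTheory.Finite.Basic
import Mathlib.Algebra.Algebra.ZMod
import Mathlib.GroupTheory.Perm.Cycle.Type

/-!
# The stable line
-/

set_option autoImplicit false
set_option linter.unusedSectionVars false
set_option linter.style.haveILetI false
set_option linter.unusedVariables false

namespace Cfsg.Lib.Char.StableLine

universe u v

/-- A two-group fixes a class modulo a fixed element of order two. -/
theorem exists_fixed_class {B : Type v} [AddCommGroup B] [Finite B] {S : Type u} [Group S]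
    (hS : IsPGroup 2 S) (φ : S → B →+ B) (h1 : ∀ b, φ 1 b = b)
    (hm : ∀ s t b, φ (s * t) b = φ s (φ t b)) (hB : ∀ b : B, b + b = 0) {u w : B} (hu : ∀ s, φ s u = u)
    (hw0 : w ≠ 0) (hwu : w ≠ u) :
    ∃ f, f ≠ 0 ∧ f ≠ u ∧ ∀ s, φ s f = f ∨ φ s f = f + u := by
  have hZ : ∀ b, b ∈ AddSubgroup.zmultiples u ↔ b = 0 ∨ b = u := fun b => by
    constructor
    · rintro ⟨i, rfl⟩
      rcases Int.even_or_odd' i with ⟨k, rfl | rfl⟩
      · left; simp [mul_zsmul, two_zsmul, hB]
      · right; simp [add_zsmul, mul_zsmul, two_zsmul, hB]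
    · rintro (rfl | rfl)
      · exact zero_mem _
      · exact AddSubgroup.mem_zmultiples _
  let N := AddSubgroup.zmultiples u
  have hN : ∀ s, N ≤ N.comap (φ s) := fun s b hb => by
    rw [AddSubgroup.mem_comap, hZ]
    rcases (hZ b).mp hb with r | r
    · left; rw [r, map_zero]
    · right; rw [r, hu]
  let ψ : S → (B ⧸ N) →+ (B ⧸ N) := fun s => QuotientAddGroup.map N N (φ s) (hN s)
  letI : MulAction S (B ⧸ N) :=
    { smul := fun s x => ψ s x
      one_smul := fun x => by
        obtain ⟨b, rfl⟩ := QuotientAddGroup.mk_surjective x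
        exact congrArg QuotientAddGroup.mk (h1 b)
      mul_smul := fun s t x => by
        obtain ⟨b, rfl⟩ := QuotientAddGroup.mk_surjective x
        exact congrArg QuotientAddGroup.mk (hm s t b) }
  have hsmul : ∀ (s : S) (b : B), s • (b : B ⧸ N) = ((φ s b : B) : B ⧸ N) := fun s b => rfl
  have h2 : 2 ∣ Nat.card (B ⧸ N) := by
    have hne : (w : B ⧸ N) ≠ 0 := fun h => by
      rcases (hZ w).mp ((QuotientAddGroup.eq_zero_iff w).mp h) with r | r <;> contradiction
    have h : addOrderOf (w : B ⧸ N) = 2 :=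
      addOrderOf_eq_prime (by rw [two_nsmul, ← QuotientAddGroup.mk_add, hB]; rfl) hne
    exact h ▸ addOrderOf_dvd_natCard _
  obtain ⟨x, hx, hx0⟩ := hS.exists_fixed_point_of_prime_dvd_card_of_fixed_point (B ⧸ N) h2
    (a := 0) (fun s => map_zero (ψ s))
  obtain ⟨f, rfl⟩ := QuotientAddGroup.mk_surjective x
  refine ⟨f, fun h => hx0 (by rw [h]; rfl), fun h => hx0 ?_, fun s => ?_⟩
  · rw [h]; exact ((QuotientAddGroup.eq_zero_iff u).mpr (AddSubgroup.mem_zmultiples u)).symm
  · have h := (hsmul s f).symm.trans (hx s)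
    rcases (hZ _).mp (QuotientAddGroup.eq.mp h) with r | r
    · left; exact neg_add_eq_zero.mp r
    · right
      have : f = φ s f + u := by rw [← r, add_neg_cancel_left]
      calc φ s f = φ s f + (u + u) := by rw [hB, add_zero]
        _ = f + u := by rw [← add_assoc, ← this]

section

variable {E : Type u} [Group E] [Finite E] {z : E} {hE : ExData z} (Q : Quad hE)
variable (A : Subgroup (MulAut E))

local notation "End'" => Module.End (ZMod 2) Q.V

/-- The operator of an automorphism. -/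
noncomputable def op : MulAut E →* End' where
  toFun f := (Q.act f : Q.V →ₗ[ZMod 2] Q.V)
  map_one' := by rw [map_one]; rfl
  map_mul' f g := by rw [map_mul]; rfl

theorem op_apply (f : MulAut E) (v : Q.V) : op Q f v = Q.act f v := rfl

theorem add_self_End (r : End') : r + r = 0 := LinearMap.ext fun v => ZModModule.add_self (r v)

theorem op_mul_inv (f : MulAut E) : op Q f * op Q f⁻¹ = 1 := by
  rw [← map_mul, mul_inv_cancel, map_one]

theorem op_inv_mul (f : MulAut E) : op Q f⁻¹ * op Q f = 1 := by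
  rw [← map_mul, inv_mul_cancel, map_one]

/-- In the bicommutant of `A`. -/
def InC (r : End') : Prop :=
  (∀ a ∈ A, r * op Q a = op Q a * r) ∧
    ∀ g : End', (∀ a ∈ A, g * op Q a = op Q a * g) → r * g = g * r

/-- Adjointness. -/
def IsAdj (r r' : End') : Prop := ∀ v w, Q.B (r v) w = Q.B v (r' w)

theorem IsAdj.symm {r r' : End'} (h : IsAdj Q r r') : IsAdj Q r' r := fun v w => by
  rw [Q.B_symm, ← h, Q.B_symm]

theorem IsAdj.unique {r r' r'' : End'} (h : IsAdj Q r r') (h' : IsAdj Q r r'') : r' = r'' := by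
  refine LinearMap.ext fun w => ?_
  have h1 : r' w + r'' w = 0 := Q.nondeg.2 _ fun v => by
    rw [map_add, ← h, ← h', CharTwo.add_self_eq_zero]
  rw [← eq_neg_iff_add_eq_zero.mpr h1 |>.symm, ZModModule.neg_eq_self]

/-- The commutative ring with involution attached to `A`. -/
noncomputable def adjRing : Subring End' where
  carrier := {r | InC Q A r ∧ ∃ r', InC Q A r' ∧ IsAdj Q r r'}
  one_mem' := ⟨⟨fun a _ => by simp, fun g _ => by simp⟩, 1, ⟨fun a _ => by simp, fun g _ => by simp⟩,
    fun v w => rfl⟩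
  zero_mem' := ⟨⟨fun a _ => by simp, fun g _ => by simp⟩, 0, ⟨fun a _ => by simp, fun g _ => by simp⟩,
    fun v w => by simp⟩
  add_mem' := fun {r s} ⟨hr, r', hr', hra⟩ ⟨hs, s', hs', hsa⟩ =>
    ⟨⟨fun a ha => by rw [add_mul, mul_add, hr.1 a ha, hs.1 a ha],
      fun g hg => by rw [add_mul, mul_add, hr.2 g hg, hs.2 g hg]⟩, r' + s',
     ⟨fun a ha => by rw [add_mul, mul_add, hr'.1 a ha, hs'.1 a ha],
      fun g hg => by rw [add_mul, mul_add, hr'.2 g hg, hs'.2 g hg]⟩,
     fun v w => by simp [hra v w, hsa v w]⟩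
  mul_mem' := fun {r s} ⟨hr, r', hr', hra⟩ ⟨hs, s', hs', hsa⟩ =>
    ⟨⟨fun a ha => by rw [mul_assoc, hs.1 a ha, ← mul_assoc, hr.1 a ha, mul_assoc],
      fun g hg => by rw [mul_assoc, hs.2 g hg, ← mul_assoc, hr.2 g hg, mul_assoc]⟩, s' * r',
     ⟨fun a ha => by rw [mul_assoc, hr'.1 a ha, ← mul_assoc, hs'.1 a ha, mul_assoc],
      fun g hg => by rw [mul_assoc, hr'.2 g hg, ← mul_assoc, hs'.2 g hg, mul_assoc]⟩,
     fun v w => by rw [Module.End.mul_apply, hra, hsa]; rfl⟩
  neg_mem' := fun {r} h => by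
    have : -r = r := neg_eq_of_add_eq_zero_left (add_self_End Q r)
    rw [this]; exact h

local notation "R'" => adjRing Q A

theorem inC (r : R') : InC Q A (r : End') := r.2.1

theorem ring_comm (r s : R') : r * s = s * r :=
  Subtype.ext ((inC Q A r).2 _ (inC Q A s).1)

theorem ring_two (r : R') : r + r = 0 := Subtype.ext (add_self_End Q _)

/-- The involution. -/
noncomputable def star' (r : R') : R' :=
  ⟨r.2.2.choose, r.2.2.choose_spec.1, r, r.2.1, r.2.2.choose_spec.2.symm⟩

theorem star'_spec (r : R') : IsAdj Q (r : End') (star' Q A r : End') := r.2.2.choose_spec.2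

theorem star'_unique (r s : R') (h : IsAdj Q (r : End') (s : End')) : star' Q A r = s :=
  Subtype.ext ((star'_spec Q A r).unique Q h)

theorem star'_star' (r : R') : star' Q A (star' Q A r) = r :=
  star'_unique Q A _ _ (star'_spec Q A r).symm

theorem star'_one : star' Q A 1 = 1 := star'_unique Q A _ _ fun v w => rfl

theorem star'_add (r s : R') : star' Q A (r + s) = star' Q A r + star' Q A s :=
  star'_unique Q A _ _ fun v w => by simp [star'_spec Q A r v w, star'_spec Q A s v w]

theorem star'_mul (r s : R') : star' Q A (r * s) = star' Q A r * star' Q A s := by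
  rw [ring_comm Q A (star' Q A r)]
  refine star'_unique Q A _ _ fun v w => ?_
  show Q.B ((r : End') ((s : End') v)) w = _
  rw [star'_spec Q A r, star'_spec Q A s]; rfl

theorem B_left (r : R') (v w : Q.V) :
    Q.B ((r : End') v) w = Q.B v ((star' Q A r : End') w) := star'_spec Q A r v w

variable {Q A}

theorem conj_mem {f : MulAut E} (hf : ∀ a ∈ A, f⁻¹ * a * f ∈ A) (hf' : ∀ a ∈ A, f * a * f⁻¹ ∈ A)
    {r : End'} (hr : InC Q A r) : InC Q A (op Q f * r * op Q f⁻¹) := by
  constructor
  · intro a ha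
    calc op Q f * r * op Q f⁻¹ * op Q a
        = op Q f * (r * op Q (f⁻¹ * a * f)) * op Q f⁻¹ := by
          simp only [map_mul, mul_assoc, op_mul_inv, mul_one]
      _ = op Q f * (op Q (f⁻¹ * a * f) * r) * op Q f⁻¹ := by rw [hr.1 _ (hf a ha)]
      _ = op Q a * (op Q f * r * op Q f⁻¹) := by
          simp only [map_mul, ← mul_assoc, op_mul_inv, one_mul]
  · intro g hg
    have hg' : ∀ a ∈ A, (op Q f⁻¹ * g * op Q f) * op Q a = op Q a * (op Q f⁻¹ * g * op Q f) := by
      intro a ha
      calc op Q f⁻¹ * g * op Q f * op Q a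
          = op Q f⁻¹ * (g * op Q (f * a * f⁻¹)) * op Q f := by
            simp only [map_mul, mul_assoc, op_inv_mul, mul_one]
        _ = op Q f⁻¹ * (op Q (f * a * f⁻¹) * g) * op Q f := by rw [hg _ (hf' a ha)]
        _ = _ := by simp only [map_mul, ← mul_assoc, op_inv_mul, one_mul]
    calc op Q f * r * op Q f⁻¹ * g
        = op Q f * (r * (op Q f⁻¹ * g * op Q f)) * op Q f⁻¹ := by
          simp only [mul_assoc, op_mul_inv, mul_one]
      _ = op Q f * ((op Q f⁻¹ * g * op Q f) * r) * op Q f⁻¹ := by rw [hr.2 _ hg']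
      _ = _ := by simp only [← mul_assoc, op_mul_inv, one_mul]

theorem conj_adj (f : MulAut E) {r r' : End'} (h : IsAdj Q r r') :
    IsAdj Q (op Q f * r * op Q f⁻¹) (op Q f * r' * op Q f⁻¹) := fun v w => by
  simp only [Module.End.mul_apply, op_apply]
  have e : ∀ x, Q.act f (Q.act f⁻¹ x) = x := fun x => by
    rw [← op_apply, ← op_apply, ← Module.End.mul_apply, op_mul_inv]; rfl
  conv_lhs => rw [← e w, Q.B_act, h]
  conv_rhs => rw [← e v, Q.B_act]

variable {S : Subgroup (MulAut E)}

include hE in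
/-- A self-adjoint idempotent stable up to complement. -/
theorem good_of_idem (hAS : Acts z A S) (hb : Below.{u} (Nat.card E)) (f : R') (hf : f * f = f)
    (hadj : star' Q A f = f) (h0 : f ≠ 0) (h1 : f ≠ 1)
    (hS : ∀ s ∈ S, op Q s * (f : End') = (f : End') * op Q s ∨
      op Q s * (f : End') = ((f + 1 : R') : End') * op Q s) : Good z S := by
  classical
  have hff : ∀ v, (f : End') ((f : End') v) = (f : End') v := fun v =>
    LinearMap.congr_fun (congrArg Subtype.val hf) v
  let U := Q.pre (LinearMap.range (f : End'))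
  have hzU : z ∈ U := Q.z_mem_pre _
  have hU : ∀ x, x ∈ U ↔ (f : End') (Q.π x) = Q.π x := fun x => by
    rw [Q.mem_pre, LinearMap.mem_range]
    exact ⟨fun ⟨v, hv⟩ => by rw [← hv, hff], fun h => ⟨_, h⟩⟩
  let V := Subgroup.centralizer (U : Set E)
  have hV : ∀ x, x ∈ V ↔ (f : End') (Q.π x) = 0 := fun x => by
    rw [Subgroup.mem_centralizer_iff]
    constructor
    · intro h
      refine Q.nondeg.1 _ fun w => ?_
      rw [B_left, hadj]
      obtain ⟨u, hu⟩ := Q.surj ((f : End') w)
      rw [← hu, Q.B_π, hE.cm_eq_zero]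
      exact (h u (show Q.π u ∈ LinearMap.range (f : End') from ⟨w, hu.symm⟩)).symm
    · intro h u hu
      rw [← hE.cm_eq_zero, ← Q.B_π, ← (hU u).mp hu, B_left, hadj, h, map_zero]
  refine good_of_split hE Q hAS hb U V hzU (fun x => Subgroup.mem_centralizer_iff) ?_ ?_ ?_ ?_ ?_
  · intro x hx hc
    have h := (hV x).mp (Subgroup.mem_centralizer_iff.mpr hc)
    rw [(hU x).mp hx] at h
    exact (Q.eq_zero x).mp h
  · intro a ha x hx
    rw [hU] at hx ⊢
    rw [← Q.act_π, ← op_apply, ← Module.End.mul_apply, (inC Q A f).1 a ha, Module.End.mul_apply, hx]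
  · obtain ⟨v, hv⟩ : ∃ v, (f : End') v ≠ 0 := by
      by_contra h
      push Not at h
      exact h0 (Subtype.ext (LinearMap.ext h))
    obtain ⟨x, hx⟩ := Q.surj ((f : End') v)
    refine ⟨x, (hU x).mpr (by rw [hx, hff]), ?_, ?_⟩ <;> intro r <;>
      exact hv (by rw [← hx, (Q.eq_zero x).mpr (by simp [r])])
  · obtain ⟨v, hv⟩ : ∃ v, (f : End') v ≠ v := by
      by_contra h
      push Not at h
      exact h1 (Subtype.ext (LinearMap.ext h))
    obtain ⟨x, rfl⟩ := Q.surj v
    exact ⟨x, fun h => hv ((hU x).mp h)⟩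
  · intro s hs
    rcases hS s hs with h | h
    · left
      intro x hx
      rw [hU] at hx ⊢
      rw [← Q.act_π, ← op_apply, ← Module.End.mul_apply, ← h, Module.End.mul_apply, hx]
    · right
      have hsv : ∀ v, op Q s ((f : End') v) = (f : End') (op Q s v) + op Q s v := fun v => by
        rw [← Module.End.mul_apply, h]; rfl
      constructor
      · intro x hx
        rw [hV, ← Q.act_π, ← op_apply, ← (hU x).mp hx, hsv, map_add, hff, ZModModule.add_self]
      · intro x hx
        rw [hU, ← Q.act_π, ← op_apply]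
        have e := hsv (Q.π x)
        rw [(hV x).mp hx, map_zero] at e
        calc (f : End') (op Q s (Q.π x))
            = (f : End') (op Q s (Q.π x)) + (op Q s (Q.π x) + op Q s (Q.π x)) := by
              rw [ZModModule.add_self, add_zero]
          _ = _ := by rw [← add_assoc, ← e, zero_add]

set_option maxHeartbeats 1600000 in
include hE in
/-- The induction step. -/
theorem good_step (Q : Quad hE) (hAS : Acts z A S) (hb : Below.{u} (Nat.card E)) : Good z S := by
  classical
  haveI := Fintype.ofFinite A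
  by_cases htriv : ∀ x : E, x = 1 ∨ x = z
  · haveI : Subsingleton (MulAut E) := ⟨fun f g => MulEquiv.ext fun x => by
      rcases htriv x with r | r <;> simp [r, hE.auto_fix]⟩
    exact good_of_cyclic hE
  push Not at htriv
  obtain ⟨x₁, hx₁, hx₁z⟩ := htriv
  have hv₁ : Q.π x₁ ≠ 0 := fun h => by rcases (Q.eq_zero x₁).mp h with r | r <;> contradiction
  let End₁ := Module.End (ZMod 2) Q.V
  let R := adjRing Q A
  haveI : Finite End₁ := Finite.of_injective _ (DFunLike.coe_injective (F := End₁))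
  have hnorm : ∀ s ∈ S, (∀ a ∈ A, s⁻¹ * a * s ∈ A) ∧ ∀ a ∈ A, s * a * s⁻¹ ∈ A := fun s hs =>
    ⟨fun a ha => by simpa using hAS.norm s⁻¹ (S.inv_mem hs) a ha, hAS.norm s hs⟩
  have hsum : (∑ a : A, op Q (a : MulAut E)) = 0 := LinearMap.ext fun v => by
    rw [LinearMap.sum_apply]
    exact Q.sum_act_eq_zero A hAS.odd hAS.fix v
  have hodd : ∀ (r : End₁), (Fintype.card A) • r = r := fun r => by
    obtain ⟨k, hk⟩ := hAS.odd
    rw [← Nat.card_eq_fintype_card, hk, succ_nsmul, mul_nsmul, two_nsmul, add_self_End, smul_zero,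
      zero_add]
  -- reducedness
  have hred : ∀ x : R, x * x = 0 → x = 0 := by
    intro x hx
    obtain ⟨h, hh⟩ := (x : End₁).rangeRestrict.exists_rightInverse_of_surjective
      (x : End₁).range_rangeRestrict
    obtain ⟨g, hg⟩ := LinearMap.exists_extend h
    have hg' : ∀ v, (x : End₁) (g ((x : End₁) v)) = (x : End₁) v := fun v => by
      have e : g ((x : End₁) v) = h ⟨(x : End₁) v, v, rfl⟩ := LinearMap.congr_fun hg ⟨_, v, rfl⟩
      rw [e]
      exact congrArg Subtype.val (LinearMap.congr_fun hh ⟨(x : End₁) v, v, rfl⟩)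
    let f : End₁ := ∑ a : A, op Q (a : MulAut E) * g * op Q (a : MulAut E)⁻¹
    have hf : ∀ b ∈ A, f * op Q b = op Q b * f := fun b hb => by
      rw [Finset.sum_mul, Finset.mul_sum]
      symm
      refine Fintype.sum_equiv (Equiv.mulLeft ⟨b, hb⟩) _ _ fun a => ?_
      show op Q b * (op Q (a : MulAut E) * g * op Q (a : MulAut E)⁻¹) =
        op Q (b * (a : MulAut E)) * g * op Q (b * (a : MulAut E))⁻¹ * op Q b
      simp only [mul_inv_rev, map_mul, mul_assoc, op_inv_mul, mul_one]
    have hxgx : (x : End₁) * g * (x : End₁) = (x : End₁) := LinearMap.ext hg'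
    have e1 : (x : End₁) * f * (x : End₁) = (x : End₁) := by
      rw [Finset.mul_sum, Finset.sum_mul, Finset.sum_congr rfl (g := fun _ => (x : End₁)),
        Finset.sum_const, Finset.card_univ, hodd]
      intro a _
      calc (x : End₁) * (op Q (a : MulAut E) * g * op Q (a : MulAut E)⁻¹) * (x : End₁)
          = ((x : End₁) * op Q (a : MulAut E)) * g * (op Q (a : MulAut E)⁻¹ * (x : End₁)) := by
            simp only [mul_assoc]
        _ = op Q (a : MulAut E) * ((x : End₁) * g * (x : End₁)) * op Q (a : MulAut E)⁻¹ := by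
            rw [(inC Q A x).1 a a.2, ← (inC Q A x).1 _ (A.inv_mem a.2)]; simp only [mul_assoc]
        _ = op Q (a : MulAut E) * op Q (a : MulAut E)⁻¹ * (x : End₁) := by
            rw [hxgx, mul_assoc, (inC Q A x).1 _ (A.inv_mem a.2), ← mul_assoc]
        _ = _ := by rw [op_mul_inv, one_mul]
    refine Subtype.ext ?_
    rw [← e1, (inC Q A x).2 f hf, mul_assoc, show (x : End₁) * (x : End₁) = 0 from congrArg Subtype.val hx,
      mul_zero]
    rfl
  -- the element of trace one
  obtain ⟨ζ, hζ1⟩ : ∃ ζ : R, ζ + star' Q A ζ = 1 := by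
    haveI : Finite (ConjClasses A) := Finite.of_surjective _ ConjClasses.mk_surjective
    haveI := Fintype.ofFinite (ConjClasses A)
    let idx := Fintype.equivFin (ConjClasses A)
    let H : Finset A := Finset.univ.filter fun a => idx (ConjClasses.mk a) < idx (ConjClasses.mk a⁻¹)
    have hconj : ∀ a b : A, ConjClasses.mk (b * a * b⁻¹) = ConjClasses.mk a := fun a b =>
      ConjClasses.mk_eq_mk_iff_isConj.mpr (isConj_iff.mpr ⟨b, rfl⟩).symm
    have hclass : ∀ a : A, a ≠ 1 → ConjClasses.mk a ≠ ConjClasses.mk a⁻¹ := by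
      intro a ha h
      obtain ⟨g, hg⟩ := isConj_iff.mp (ConjClasses.mk_eq_mk_iff_isConj.mp h)
      have h2 : Commute (g * g) a := by
        show g * g * a = a * (g * g)
        have e : g * a⁻¹ * g⁻¹ = a := by
          have := congrArg Inv.inv hg
          simpa [mul_assoc] using this
        calc g * g * a = g * (g * a * g⁻¹) * g⁻¹ * (g * g) := by group
          _ = a * (g * g) := by rw [hg, e]
      obtain ⟨k, hk⟩ := hAS.odd
      have hgo : g = (g * g) ^ (k + 1) := by
        rw [← pow_two, ← pow_mul, show 2 * (k + 1) = Nat.card A + 1 by omega, pow_succ,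
          pow_card_eq_one', one_mul]
      have h3 : Commute g a := hgo ▸ h2.pow_left (k + 1)
      rw [h3.eq, mul_inv_cancel_right] at hg
      have h4 : a * a = 1 := by nth_rewrite 2 [hg]; exact mul_inv_cancel a
      refine ha ?_
      have h5 : a ^ (2 * k + 1) = 1 := by rw [← hk, pow_card_eq_one']
      rwa [pow_succ, pow_mul, pow_two, h4, one_pow, one_mul] at h5
    have hH : ∀ (b a : A), b * a * b⁻¹ ∈ H ↔ a ∈ H := fun b a => by
      simp only [H, Finset.mem_filter, Finset.mem_univ, true_and, conj_inv, hconj]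
    have mkInC : ∀ (e : A → A), (∀ a b : A, e (b * a * b⁻¹) = b * e a * b⁻¹) →
        InC Q A (∑ a ∈ H, op Q (e a : MulAut E)) := fun e he =>
      ⟨fun b hb => by
        rw [Finset.sum_mul, Finset.mul_sum]
        symm
        refine Finset.sum_equiv (MulAut.conj (⟨b, hb⟩ : A)).toEquiv (fun a => ?_) (fun a _ => ?_)
        · show a ∈ H ↔ ⟨b, hb⟩ * a * (⟨b, hb⟩ : A)⁻¹ ∈ H
          rw [hH]
        · show _ = op Q (e (⟨b, hb⟩ * a * (⟨b, hb⟩ : A)⁻¹) : MulAut E) * op Q b
          rw [he, ← map_mul, ← map_mul]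
          simp
      , fun g hg => by
        rw [Finset.sum_mul, Finset.mul_sum]
        exact Finset.sum_congr rfl fun a _ => (hg _ (e a).2).symm⟩
    have hadjA : IsAdj Q (∑ a ∈ H, op Q (a : MulAut E)) (∑ a ∈ H, op Q ((a⁻¹ : A) : MulAut E)) :=
      fun v w => by
        simp only [LinearMap.sum_apply, map_sum]
        refine Finset.sum_congr rfl fun a _ => ?_
        show Q.B (op Q (a : MulAut E) v) w = Q.B v (op Q (a : MulAut E)⁻¹ w)
        conv_lhs => rw [show w = op Q (a : MulAut E) (op Q (a : MulAut E)⁻¹ w) by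
          rw [← Module.End.mul_apply, op_mul_inv]; rfl]
        exact Q.B_act _ _ _
    let ζ : R := ⟨_, mkInC id (fun _ _ => rfl), _, mkInC (·⁻¹) (fun a b => conj_inv.symm), hadjA⟩
    let ζ' : R := ⟨_, mkInC (·⁻¹) (fun a b => conj_inv.symm), _, mkInC id (fun _ _ => rfl), hadjA.symm⟩
    refine ⟨ζ, ?_⟩
    rw [star'_unique Q A ζ ζ' hadjA]
    refine Subtype.ext ?_
    show (∑ a ∈ H, op Q (a : MulAut E)) + (∑ a ∈ H, op Q ((a⁻¹ : A) : MulAut E)) = (1 : End₁)
    have e2 : (∑ a ∈ H, op Q ((a⁻¹ : A) : MulAut E)) =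
        ∑ a ∈ (Finset.univ.erase (1 : A)).filter (fun a => ¬ a ∈ H), op Q (a : MulAut E) := by
      refine Finset.sum_equiv (Equiv.inv A) (fun a => ?_) (fun a _ => rfl)
      simp only [H, Finset.mem_filter, Finset.mem_univ, true_and, Finset.mem_erase, Equiv.inv_apply,
        inv_inv, not_lt, and_true]
      constructor
      · intro h
        exact ⟨fun h1 => by rw [inv_eq_one] at h1; simp [h1] at h, h.le⟩
      · rintro ⟨h1, h2⟩
        exact lt_of_le_of_ne h2 fun h3 => hclass a (fun h4 => h1 (by simp [h4])) (idx.injective h3)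
    have e3 : (Finset.univ.erase (1 : A)).filter (fun a => a ∈ H) = H := by
      ext a
      simp only [Finset.mem_filter, Finset.mem_erase, Finset.mem_univ, and_true]
      exact ⟨fun h => h.2, fun h => ⟨fun h1 => by simp [H, h1] at h, h⟩⟩
    rw [e2]
    nth_rewrite 1 [← e3]
    rw [Finset.sum_filter_add_sum_filter_not]
    have h := Finset.sum_erase_add Finset.univ (fun a : A => op Q (a : MulAut E)) (Finset.mem_univ 1)
    rw [hsum, show op Q ((1 : A) : MulAut E) = 1 from map_one _] at h
    rw [eq_comm, ← sub_eq_zero]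
    calc (1 : End₁) - _ = 1 + ∑ a ∈ Finset.univ.erase (1 : A), op Q (a : MulAut E) := by
          rw [sub_eq_add_neg, neg_eq_of_add_eq_zero_left (add_self_End Q _)]
      _ = 0 := by rw [add_comm]; exact h
  have hBζ : ∀ v w, Q.B ((ζ : End₁) v) w + Q.B ((ζ : End₁) w) v = Q.B v w := fun v w => by
    rw [Q.B_symm ((ζ : End₁) w) v, B_left, ← map_add]
    have := LinearMap.congr_fun (congrArg Subtype.val hζ1) w
    rw [show ((star' Q A ζ : R) : End₁) w + (ζ : End₁) w = w by rw [add_comm]; exact this]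
  -- the quadratic map
  have hq : ∀ v, Q.q v = Q.B ((ζ : End₁) v) v := by
    let δ : Q.V →+ ZMod 2 := AddMonoidHom.mk' (fun v => Q.q v + Q.B ((ζ : End₁) v) v) fun v w => by
      rw [Q.q_polar, map_add, ← hBζ v w]
      simp only [map_add, LinearMap.add_apply]
      generalize Q.B ((ζ : End₁) v) w = a
      generalize Q.B ((ζ : End₁) w) v = b
      generalize Q.B ((ζ : End₁) v) v = c
      generalize Q.B ((ζ : End₁) w) w = d
      generalize Q.q v = e
      generalize Q.q w = g
      revert a b c d e g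
      decide
    intro v
    have h1 : ∀ a : A, δ (Q.act (a : MulAut E) v) = δ v := fun a => by
      show Q.q _ + Q.B ((ζ : End₁) (op Q (a : MulAut E) v)) _ = _
      rw [Q.q_act, ← Module.End.mul_apply, (inC Q A ζ).1 a a.2, Module.End.mul_apply, op_apply,
        Q.B_act]
      rfl
    have h2 := congrArg δ (Q.sum_act_eq_zero A hAS.odd hAS.fix v)
    rw [map_sum, map_zero, Finset.sum_congr rfl (fun a _ => h1 a), Finset.sum_const, Finset.card_univ]
      at h2
    obtain ⟨k, hk⟩ := hAS.odd
    rw [← Nat.card_eq_fintype_card, hk, succ_nsmul, mul_nsmul, two_nsmul, CharTwo.add_self_eq_zero,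
      smul_zero, zero_add] at h2
    exact CharTwo.add_eq_zero.mp h2
  -- conjugation
  let cj : S → R → R := fun s r => ⟨op Q (s : MulAut E) * (r : End₁) * op Q (s : MulAut E)⁻¹,
    conj_mem (hnorm s s.2).1 (hnorm s s.2).2 (inC Q A r), _,
    conj_mem (hnorm s s.2).1 (hnorm s s.2).2 (inC Q A (star' Q A r)), conj_adj _ (star'_spec Q A r)⟩
  have cj_star : ∀ s r, star' Q A (cj s r) = cj s (star' Q A r) := fun s r =>
    star'_unique Q A _ _ (conj_adj _ (star'_spec Q A r))
  have cj_mul : ∀ s r r', cj s (r * r') = cj s r * cj s r' := fun s r r' => Subtype.ext (by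
    show op Q (s : MulAut E) * ((r : End₁) * (r' : End₁)) * op Q (s : MulAut E)⁻¹ =
      (op Q _ * (r : End₁) * op Q _) * (op Q _ * (r' : End₁) * op Q _)
    simp only [Subring.coe_mul, mul_assoc]
    rw [← mul_assoc (op Q (s : MulAut E)⁻¹) (op Q (s : MulAut E)), op_inv_mul, one_mul])
  have cj_add : ∀ s r r', cj s (r + r') = cj s r + cj s r' := fun s r r' => Subtype.ext (by
    simp [cj, mul_add, add_mul])
  have cj_one : ∀ s, cj s 1 = 1 := fun s => Subtype.ext (by simp [cj, op_mul_inv])
  have cj_comp : ∀ s t r, cj (s * t) r = cj s (cj t r) := fun s t r => Subtype.ext (by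
    simp [cj, mul_inv_rev, map_mul, mul_assoc])
  have cj_id : ∀ r, cj 1 r = r := fun r => Subtype.ext (by simp [cj])
  have cj_op : ∀ (s : S) (r : R), op Q (s : MulAut E) * (r : End₁) = (cj s r : End₁) * op Q (s : MulAut E) :=
    fun s r => by simp [cj, mul_assoc, op_inv_mul]
  have star_idem : ∀ e : R, e * e = e → star' Q A e * star' Q A e = star' Q A e := fun e he => by
    rw [← star'_mul, he]
  by_cases hidem : ∃ e : R, e * e = e ∧ e ≠ 0 ∧ e ≠ 1
  · obtain ⟨e, he, he0, he1⟩ := hidem
    let I : AddSubgroup R :=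
      { carrier := {e | e * e = e}
        zero_mem' := mul_zero 0
        add_mem' := fun {a b} (ha : a * a = a) (hb : b * b = b) => by
          show (a + b) * (a + b) = a + b
          rw [add_mul, mul_add, mul_add, ha, hb, ring_comm Q A b a,
            show a + a * b + (a * b + b) = a + (a * b + a * b) + b by abel, ring_two, add_zero]
        neg_mem' := fun {a} (ha : a * a = a) => by show -a * -a = -a; rw [neg_mul_neg, ha, neg_eq_of_add_eq_zero_left (ring_two Q A a)] }
    let φ : S → I →+ I := fun s => AddMonoidHom.mk'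
      (fun e => ⟨cj s e, show cj s e * cj s e = cj s e by rw [← cj_mul]; exact congrArg _ e.2⟩)
      fun a b => Subtype.ext (cj_add s a b)
    obtain ⟨f, hf0, hf1, hfS⟩ := exists_fixed_class hAS.two φ (fun b => Subtype.ext (cj_id b))
      (fun s t b => Subtype.ext (cj_comp s t b)) (fun b => Subtype.ext (ring_two Q A b))
      (u := ⟨1, one_mul 1⟩) (w := ⟨e, he⟩) (fun s => Subtype.ext (cj_one s))
      (fun h => he0 (congrArg Subtype.val h)) (fun h => he1 (congrArg Subtype.val h))
    obtain ⟨f, hf⟩ := f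
    have hf0' : f ≠ 0 := fun h => hf0 (Subtype.ext h)
    have hf1' : f ≠ 1 := fun h => hf1 (Subtype.ext h)
    have hfS' : ∀ s : S, cj s f = f ∨ cj s f = f + 1 := fun s =>
      (hfS s).imp (congrArg Subtype.val) (congrArg Subtype.val)
    by_cases hff : star' Q A f = f
    · exact good_of_idem hAS hb f hf hff hf0' hf1' fun s hs => (hfS' ⟨s, hs⟩).imp
        (fun h => by rw [cj_op ⟨s, hs⟩ f, h]) (fun h => by rw [cj_op ⟨s, hs⟩ f, h])
    by_cases hfc : star' Q A f = f + 1
    · have hz0 : (f + 1) * f = 0 := by rw [add_mul, hf, one_mul, ring_two]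
      have hsing : ∀ g : R, g * g = g → star' Q A g * g = 0 →
          ∀ x ∈ Q.pre (LinearMap.range (g : End₁)),
            (x * x = 1 ∧ ∀ y ∈ Q.pre (LinearMap.range (g : End₁)), x * y = y * x) ∧
            ∀ a ∈ A, (a : MulAut E) x ∈ Q.pre (LinearMap.range (g : End₁)) := by
        intro g hg hg0 x hx
        obtain ⟨v, hv⟩ := hx
        have hB0 : ∀ v w, Q.B ((g : End₁) v) ((g : End₁) w) = 0 := fun v w => by
          rw [B_left, ← Module.End.mul_apply, ← Subring.coe_mul, hg0]; simp
        refine ⟨⟨?_, fun y hy => ?_⟩, fun a ha => ⟨op Q a v, ?_⟩⟩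
        · rw [hE.sqv_spec, ← Q.q_π, ← hv, hq, ← Module.End.mul_apply, ← Subring.coe_mul,
            ring_comm Q A ζ g, Subring.coe_mul, Module.End.mul_apply, hB0, ExData.zp_zero]
        · obtain ⟨w, hw⟩ := hy
          rw [← hE.cm_eq_zero, ← Q.B_π, ← hv, ← hw, hB0]
        · rw [← Module.End.mul_apply, (inC Q A g).1 a ha, Module.End.mul_apply, hv, op_apply, Q.act_π]
      have hg : (f + 1) * (f + 1) = f + 1 := by
        rw [mul_add, hz0, mul_one, zero_add]
      have h1 := hsing f hf (by rw [hfc, hz0])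
      have h2 := hsing (f + 1) hg (by
        rw [star'_add, hfc, star'_one, add_assoc, ring_two, add_zero, ring_comm, hz0])
      have hmap : ∀ (s : S) (g g' : R), cj s g = g' → ∀ x ∈ Q.pre (LinearMap.range (g : End₁)),
          (s : MulAut E) x ∈ Q.pre (LinearMap.range (g' : End₁)) := fun s g g' h x hx => by
        obtain ⟨v, hv⟩ := hx
        refine ⟨op Q (s : MulAut E) v, ?_⟩
        rw [← h, ← Module.End.mul_apply, ← cj_op, Module.End.mul_apply, hv, op_apply, Q.act_π]
      refine good_of_pair hE hAS (Q.pre (LinearMap.range (f : End₁)))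
        (Q.pre (LinearMap.range ((f + 1 : R) : End₁))) (Q.z_mem_pre _) (Q.z_mem_pre _)
        (fun x hx => (h1 x hx).1.2) (fun x hx => (h2 x hx).1.2) (fun x hx => (h1 x hx).1.1)
        (fun x hx => (h2 x hx).1.1) (fun a ha x hx => (h1 x hx).2 a ha)
        (fun a ha x hx => (h2 x hx).2 a ha) ?_ ?_ ?_
      · intro x
        obtain ⟨u, hu⟩ := Q.surj ((f : End₁) (Q.π x))
        refine ⟨u, ⟨_, hu.symm⟩, u⁻¹ * x, ⟨Q.π x, ?_⟩, (mul_inv_cancel_left u x).symm⟩
        rw [Q.map_mul, Q.π_inv, hu]
        rfl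
      · intro x hx hx'
        obtain ⟨v, hv⟩ := hx
        obtain ⟨w, hw⟩ := hx'
        refine (Q.eq_zero x).mp ?_
        have e1 : (f : End₁) (Q.π x) = Q.π x := by
          rw [← hv, ← Module.End.mul_apply, ← Subring.coe_mul, hf]
        rw [← e1, ← hw, ← Module.End.mul_apply, ← Subring.coe_mul, ring_comm, hz0]
        simp
      · intro s hs
        rcases hfS' ⟨s, hs⟩ with h | h
        · exact Or.inl ⟨hmap ⟨s, hs⟩ f f h, hmap ⟨s, hs⟩ _ _ (by rw [cj_add, h, cj_one])⟩
        · refine Or.inr ⟨hmap ⟨s, hs⟩ f _ h, hmap ⟨s, hs⟩ _ _ ?_⟩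
          rw [cj_add, h, cj_one, add_assoc, ring_two, add_zero]
    · refine good_of_idem hAS hb (f + star' Q A f) (I.add_mem hf (star_idem f hf))
        (by rw [star'_add, star'_star', add_comm]) (fun h => hff ?_) (fun h => hfc ?_) fun s hs =>
        Or.inl ?_
      · calc star' Q A f = f + f + star' Q A f := by rw [ring_two, zero_add]
          _ = f := by rw [add_assoc, h, add_zero]
      · calc star' Q A f = f + f + star' Q A f := by rw [ring_two, zero_add]
          _ = f + 1 := by rw [add_assoc, h]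
      · rw [cj_op ⟨s, hs⟩, cj_add, ← cj_star]
        rcases hfS' ⟨s, hs⟩ with h | h
        · rw [h]
        · rw [h, star'_add, star'_one, show f + 1 + (star' Q A f + 1) = f + star' Q A f + (1 + 1) by abel,
            ring_two, add_zero]
  -- the field case
  push Not at hidem
  have hinv : ∀ r : R, r ≠ 0 → ∃ r', r * r' = 1 := by
    intro r hr
    haveI : Finite R := inferInstanceAs (Finite (adjRing Q A : Subring End₁))
    letI : CommRing R := { (inferInstance : Ring R) with mul_comm := ring_comm Q A }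
    obtain ⟨i, j, hij, he⟩ := Finite.exists_ne_map_eq_of_infinite (fun n : ℕ => r ^ n)
    wlog hlt : i < j generalizing i j
    · exact this j i (Ne.symm hij) he.symm (by omega)
    obtain ⟨d, rfl⟩ := Nat.exists_eq_add_of_lt hlt
    have hi : r ^ i * (r ^ (d + 1) + 1) = 0 := by
      rw [mul_add, mul_one, ← pow_add, show i + (d + 1) = i + d + 1 by omega, ← he]
      exact ring_two Q A _
    haveI : IsReduced R := (isReduced_iff_pow_one_lt 2 one_lt_two).mpr fun x hx => hred x (by rwa [pow_two] at hx)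
    have hy : r * (r ^ (d + 1) + 1) = 0 := by
      refine IsNilpotent.eq_zero ⟨i + 1, ?_⟩
      rw [mul_pow, pow_succ r i, pow_succ' (r ^ (d + 1) + 1) i,
        show r ^ i * r * ((r ^ (d + 1) + 1) * (r ^ (d + 1) + 1) ^ i) =
          r ^ i * (r ^ (d + 1) + 1) * (r * (r ^ (d + 1) + 1) ^ i) by ring, hi, zero_mul]
    have hy' : r ^ (d + 1) * r = r := by
      have h := hy
      rw [mul_add, mul_one, mul_comm] at h
      calc r ^ (d + 1) * r = r ^ (d + 1) * r + (r + r) := by rw [ring_two, add_zero]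
        _ = r := by rw [← add_assoc, h, zero_add]
    have hie : r ^ (d + 1) * r ^ (d + 1) = r ^ (d + 1) := by
      nth_rewrite 2 [pow_succ']
      rw [← mul_assoc, hy', ← pow_succ']
    rcases eq_or_ne (r ^ (d + 1)) 0 with h | h
    · exact absurd (by rw [← hy', h, zero_mul]) hr
    · exact ⟨r ^ d, by rw [← pow_succ']; exact hidem _ hie h⟩
  have hζ0 : ζ ≠ 0 := fun h => by
    rw [h, star'_unique Q A 0 0 (fun v w => by simp), add_zero] at hζ1
    have := LinearMap.congr_fun (congrArg Subtype.val hζ1) (Q.π x₁)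
    exact hv₁ this.symm
  -- the torus
  let T : Subgroup (MulAut E) :=
    { carrier := {φ | (∀ a ∈ A, φ * a = a * φ) ∧ ∃ r : R, op Q φ = r ∧ r * star' Q A r = 1}
      one_mem' := ⟨fun a _ => by simp, 1, map_one _, by rw [star'_one, mul_one]⟩
      mul_mem' := fun {φ ψ} ⟨hφ, r, hr, hr1⟩ ⟨hψ, s, hs, hs1⟩ =>
        ⟨fun a ha => by rw [mul_assoc, hψ a ha, ← mul_assoc, hφ a ha, mul_assoc], r * s,
          by rw [map_mul, hr, hs]; rfl, by
          rw [star'_mul, show r * s * (star' Q A r * star' Q A s) = r * (s * star' Q A r) * star' Q A s by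
            simp only [mul_assoc], ring_comm Q A s (star' Q A r)]
          rw [← mul_assoc, hr1, one_mul, hs1]⟩
      inv_mem' := fun {φ} ⟨hφ, r, hr, hr1⟩ => ⟨fun a ha => by
          rw [inv_mul_eq_iff_eq_mul, ← mul_assoc, hφ a ha, mul_inv_cancel_right],
        star' Q A r, by
          calc op Q φ⁻¹ = op Q φ⁻¹ * ((r * star' Q A r : R) : End₁) := by rw [hr1]; simp
            _ = _ := by rw [Subring.coe_mul, ← hr, ← mul_assoc, op_inv_mul, one_mul],
        by rw [star'_star', ring_comm]; exact hr1⟩ }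
  have hTS : ∀ s ∈ S, ∀ φ ∈ T, s * φ * s⁻¹ ∈ T := by
    rintro s hs φ ⟨hφ, r, hr, hr1⟩
    refine ⟨fun a ha => ?_, cj ⟨s, hs⟩ r, by simp [cj, map_mul, hr], ?_⟩
    · have h := hφ _ ((hnorm s hs).1 a ha)
      calc s * φ * s⁻¹ * a = s * (φ * (s⁻¹ * a * s)) * s⁻¹ := by group
        _ = s * ((s⁻¹ * a * s) * φ) * s⁻¹ := by rw [h]
        _ = _ := by group
    · rw [cj_star, ← cj_mul, hr1, cj_one]
  obtain ⟨t, ht⟩ : ∃ φ ∈ T, ∀ v, Q.act φ v = v → v = 0 := by
    obtain ⟨u, hu⟩ := hinv (star' Q A ζ) (fun h => hζ0 (by rw [← star'_star' Q A ζ, h, star'_unique Q A 0 0 (fun v w => by simp)]))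
    obtain ⟨w, hw⟩ := hinv ζ hζ0
    have hu' : star' Q A u * ζ = 1 := by
      have := congrArg (star' Q A) hu
      rw [star'_mul, star'_star', star'_one] at this
      rwa [ring_comm] at this
    let r : R := ζ * u
    have hr1 : r * star' Q A r = 1 := by
      show ζ * u * star' Q A (ζ * u) = 1
      rw [star'_mul, show ζ * u * (star' Q A ζ * star' Q A u) = ζ * (u * star' Q A ζ) * star' Q A u by
        simp only [mul_assoc], ring_comm Q A u, hu, mul_one, ring_comm, hu']
    have hr2 : star' Q A r * r = 1 := by rw [ring_comm]; exact hr1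
    let g : Q.V ≃ₗ[ZMod 2] Q.V := LinearEquiv.ofLinearMap (r : End₁) (star' Q A r : End₁)
      (congrArg Subtype.val hr1) (congrArg Subtype.val hr2)
    obtain ⟨φ, hφA, hφg⟩ := Q.exists_lift A hAS.odd g (fun v => by
      show Q.q ((r : End₁) v) = _
      rw [hq, hq, ← Module.End.mul_apply, ← Subring.coe_mul, ring_comm, Subring.coe_mul,
        Module.End.mul_apply, B_left, ← Module.End.mul_apply, ← Subring.coe_mul, hr2]
      rfl) (fun a ha v => LinearMap.congr_fun ((inC Q A r).1 a ha) v)
    refine ⟨φ, ⟨hφA, r, by show ((Q.act φ : Q.V ≃ₗ[ZMod 2] Q.V) : End₁) = _; rw [hφg]; rfl, hr1⟩,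
      fun v hv => ?_⟩
    have hr0 : r + 1 ≠ 0 := fun h => by
      have h' : r = 1 := by
        calc r = r + (1 + 1) := by rw [ring_two, add_zero]
          _ = 1 := by rw [← add_assoc, h, zero_add]
      have h'' : ζ = star' Q A ζ := by
        have e : star' Q A ζ * r = ζ := by
          show star' Q A ζ * (ζ * u) = ζ
          rw [← mul_assoc, ring_comm Q A (star' Q A ζ), mul_assoc, hu, mul_one]
        rwa [h', mul_one, eq_comm] at e
      rw [← h'', ring_two] at hζ1
      have := LinearMap.congr_fun (congrArg Subtype.val hζ1) (Q.π x₁)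
      exact hv₁ this.symm
    obtain ⟨k, hk⟩ := hinv _ hr0
    have e : ((r + 1 : R) : End₁) v = 0 := by
      show (r : End₁) v + v = 0
      rw [show (r : End₁) v = v by rw [hφg] at hv; exact hv, ZModModule.add_self]
    calc v = (((r + 1) * k : R) : End₁) v := by rw [hk]; rfl
      _ = 0 := by rw [ring_comm, Subring.coe_mul, Module.End.mul_apply, e, map_zero]
  have hTodd : Odd (Nat.card T) := by
    rw [← Nat.not_even_iff_odd, even_iff_two_dvd]
    intro h2
    obtain ⟨⟨φ, hφA, r, hr, hr1⟩, hφ⟩ := exists_prime_orderOf_dvd_card' 2 h2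
    have hφ2 : φ * φ = 1 := by
      have := pow_orderOf_eq_one (⟨φ, hφA, r, hr, hr1⟩ : T)
      rw [hφ, pow_two] at this
      exact congrArg Subtype.val this
    have hr2 : r * r = 1 := Subtype.ext (by rw [Subring.coe_mul, ← hr, ← map_mul, hφ2, map_one]; rfl)
    have hr' : r = 1 := by
      have := hred (r + 1) (by
        rw [add_mul, mul_add, hr2, mul_one, one_mul,
          show (1 : R) + r + (r + 1) = 1 + 1 + (r + r) by abel, ring_two, ring_two, add_zero])
      calc r = r + (1 + 1) := by rw [ring_two, add_zero]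
        _ = 1 := by rw [← add_assoc, this, zero_add]
    have h1 : φ = 1 := Q.lift_unique A hAS.odd hAS.fix hφA (fun a _ => by simp) (LinearEquiv.ext fun v => by
      rw [← op_apply, hr, hr', map_one]; rfl)
    rw [show (⟨φ, hφA, r, hr, hr1⟩ : T) = 1 from Subtype.ext h1, orderOf_one] at hφ
    exact absurd hφ (by norm_num)
  have hTAS : Acts z T S :=
    { odd := hTodd, two := hAS.two, norm := hTS
      fix := fun x hx => (Q.eq_zero x).mp (ht.2 _ (by rw [Q.act_π, hx t ht.1])) }
  -- a fixed vector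
  obtain ⟨v, hv0, hvS⟩ : ∃ v : Q.V, v ≠ 0 ∧ ∀ s ∈ S, Q.act s v = v := by
    letI : MulAction S Q.V :=
      { smul := fun s v => Q.act (s : MulAut E) v
        one_smul := fun v => by show Q.act ((1 : S) : MulAut E) v = v; rw [Subgroup.coe_one, map_one]; rfl
        mul_smul := fun s t v => by
          show Q.act ((s * t : S) : MulAut E) v = Q.act (s : MulAut E) (Q.act (t : MulAut E) v)
          rw [Subgroup.coe_mul, map_mul]; rfl }
    have h2 : 2 ∣ Nat.card Q.V := by
      have h : addOrderOf (Q.π x₁) = 2 :=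
        addOrderOf_eq_prime (by rw [two_nsmul, ZModModule.add_self]) hv₁
      exact h ▸ addOrderOf_dvd_natCard _
    obtain ⟨v, hv, hv0⟩ := hAS.two.exists_fixed_point_of_prime_dvd_card_of_fixed_point Q.V h2
      (a := 0) (fun s => map_zero (Q.act (s : MulAut E)))
    exact ⟨v, hv0.symm, fun s hs => hv ⟨s, hs⟩⟩
  let W : Submodule (ZMod 2) Q.V := AddSubgroup.toZModSubmodule 2
    { carrier := {w | ∃ r : R, (r : End₁) v = w}
      zero_mem' := ⟨0, rfl⟩
      add_mem' := by rintro _ _ ⟨r, rfl⟩ ⟨s, rfl⟩; exact ⟨r + s, rfl⟩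
      neg_mem' := by rintro _ ⟨r, rfl⟩; exact ⟨r, (ZModModule.neg_eq_self _).symm⟩ }
  have hW : ∀ {w}, w ∈ W ↔ ∃ r : R, (r : End₁) v = w := Iff.rfl
  let U := Q.pre W
  have hUT : ∀ φ ∈ T, ∀ x ∈ U, φ x ∈ U := by
    rintro φ ⟨hφ, r, hr, hr1⟩ x hx
    obtain ⟨s, hs⟩ := hW.mp hx
    exact hW.mpr ⟨r * s, by rw [Subring.coe_mul, Module.End.mul_apply, hs, ← hr, op_apply, Q.act_π]⟩
  have hUS : ∀ s ∈ S, ∀ x ∈ U, s x ∈ U := by
    intro s hs x hx
    obtain ⟨r, hr⟩ := hW.mp hx
    refine hW.mpr ⟨cj ⟨s, hs⟩ r, ?_⟩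
    have h := LinearMap.congr_fun (cj_op ⟨s, hs⟩ r) v
    rw [Module.End.mul_apply, Module.End.mul_apply, op_apply, op_apply] at h
    rw [← Q.act_π, ← hr]
    exact ((congrArg _ (hvS s hs)).symm.trans h.symm)
  have hUne : ∃ x ∈ U, x ≠ 1 ∧ x ≠ z := by
    obtain ⟨x, hx⟩ := Q.surj v
    refine ⟨x, hW.mpr ⟨1, hx.symm⟩, ?_, ?_⟩ <;> intro r <;>
      exact hv0 (by rw [← hx, (Q.eq_zero x).mpr (by simp [r])])
  by_cases hdeg : ∃ r : R, (r : End₁) v ≠ 0 ∧ ∀ s : R, Q.B ((s : End₁) v) ((r : End₁) v) = 0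
  · obtain ⟨r, hrv, hrB⟩ := hdeg
    have hr0 : r ≠ 0 := fun h => hrv (by rw [h]; rfl)
    obtain ⟨k, hk⟩ := hinv r hr0
    have hv' : ∀ s : R, Q.B ((s : End₁) v) v = 0 := fun s => by
      have h := hrB (star' Q A k * s)
      rw [Subring.coe_mul, Module.End.mul_apply, B_left, star'_star', ← Module.End.mul_apply,
        ← Subring.coe_mul, ring_comm, hk] at h
      exact h
    have hWW : ∀ a b : R, Q.B ((a : End₁) v) ((b : End₁) v) = 0 := fun a b => by
      rw [Q.B_symm, B_left, ← Module.End.mul_apply, ← Subring.coe_mul, Q.B_symm]; exact hv' _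
    refine good_of_singular hE Q hTAS hb U (Q.z_mem_pre W) ?_ ?_ hUT hUS hUne
    · intro x hx y hy
      obtain ⟨a, ha⟩ := hW.mp hx
      obtain ⟨b, hb'⟩ := hW.mp hy
      rw [← hE.cm_eq_zero, ← Q.B_π, ← ha, ← hb', hWW]
    · intro x hx
      obtain ⟨a, ha⟩ := hW.mp hx
      rw [hE.sqv_spec, ← Q.q_π, ← ha, hq, ← Module.End.mul_apply, ← Subring.coe_mul, hWW,
        ExData.zp_zero]
  push Not at hdeg
  by_cases htop : ∀ x, x ∈ U
  · haveI : IsCyclic S := by
      haveI : Finite R := inferInstanceAs (Finite (adjRing Q A : Subring End₁))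
      letI : CommRing R := { (inferInstance : Ring R) with mul_comm := ring_comm Q A }
      haveI : Nontrivial R := ⟨⟨ζ, 0, hζ0⟩⟩
      letI : Field R := IsField.toField
        { exists_pair_ne := ⟨ζ, 0, hζ0⟩, mul_comm := mul_comm, mul_inv_cancel := fun h => hinv _ h }
      haveI : CharP R 2 := CharTwo.of_one_ne_zero_of_two_eq_zero one_ne_zero
        ((one_add_one_eq_two (R := R)).symm.trans (ring_two Q A 1))
      letI : Algebra (ZMod 2) R := ZMod.algebra R 2
      let σ : S →* (R ≃ₐ[ZMod 2] R) :=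
        { toFun := fun s => AlgEquiv.ofRingEquiv (f :=
            { toFun := cj s, invFun := cj s⁻¹
              left_inv := fun r => by rw [← cj_comp, inv_mul_cancel, cj_id]
              right_inv := fun r => by rw [← cj_comp, mul_inv_cancel, cj_id]
              map_mul' := cj_mul s, map_add' := cj_add s })
            (fun x => by
              rcases zmod_two_cases x with r | r <;> rw [r] <;> simp [cj_one]
              exact Subtype.ext (by simp [cj]))
          map_one' := AlgEquiv.ext fun r => cj_id r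
          map_mul' := fun s t => AlgEquiv.ext fun r => cj_comp s t r }
      refine isCyclic_of_injective σ ((injective_iff_map_eq_one σ).mpr fun s hs => ?_)
      have hcj : ∀ r, cj s r = r := fun r => AlgEquiv.congr_fun hs r
      have hop : ∀ w, Q.act (s : MulAut E) w = w := fun w => by
        obtain ⟨x, rfl⟩ := Q.surj w
        obtain ⟨r, hr⟩ := hW.mp (htop x)
        rw [← hr, ← op_apply, ← Module.End.mul_apply, cj_op s r, hcj, Module.End.mul_apply, op_apply,
          hvS _ s.2]
      refine Subtype.ext (Q.lift_unique A hAS.odd hAS.fix (fun a ha => ?_) (fun a _ => by simp)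
        (LinearEquiv.ext fun w => by rw [hop, Subgroup.coe_one, map_one]; rfl))
      -- the commutator acts trivially, hence is trivial
      have hb' : (s : MulAut E) * a * (s : MulAut E)⁻¹ * a⁻¹ ∈ A :=
        A.mul_mem (hAS.norm _ s.2 a ha) (A.inv_mem ha)
      have hb1 : ∀ w, Q.act ((s : MulAut E) * a * (s : MulAut E)⁻¹ * a⁻¹) w = w := fun w => by
        have hs1 : Q.act (s : MulAut E) = 1 := LinearEquiv.ext hop
        simp [hs1]
      have hsq : ((s : MulAut E) * a * (s : MulAut E)⁻¹ * a⁻¹) ^ 2 = 1 := MulEquiv.ext fun y => by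
        rw [pow_two, MulAut.mul_apply]
        rcases Q.π_eq (show Q.π (((s : MulAut E) * a * (s : MulAut E)⁻¹ * a⁻¹) y) = Q.π y by
          rw [← Q.act_π, hb1]) with r | r
        · rw [r, r]; rfl
        · rw [r, map_mul, r, hE.auto_fix, mul_assoc, hE.sq_z, mul_one]; rfl
      have h1 := orderOf_dvd_of_pow_eq_one hsq
      have h2 : orderOf ((s : MulAut E) * a * (s : MulAut E)⁻¹ * a⁻¹) ∣ Nat.card A := by
        have := orderOf_dvd_natCard (⟨_, hb'⟩ : A)
        rwa [Subgroup.orderOf_mk] at this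
      have h3 := orderOf_eq_one_iff.mp (Nat.eq_one_of_dvd_coprimes (Nat.coprime_two_right.mpr hAS.odd) h2 h1)
      exact mul_inv_eq_iff_eq_mul.mp (mul_inv_eq_one.mp h3)
    exact good_of_cyclic hE
  push Not at htop
  refine good_of_split hE Q hTAS hb U (Subgroup.centralizer (U : Set E)) (Q.z_mem_pre W)
    (fun x => Subgroup.mem_centralizer_iff) ?_ hUT hUne htop fun s hs => Or.inl (hUS s hs)
  intro x hx hc
  obtain ⟨r, hr⟩ := hW.mp hx
  refine (Q.eq_zero x).mp ?_
  by_contra hne
  obtain ⟨s, hs⟩ := hdeg r (by rw [hr]; exact hne)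
  obtain ⟨u, hu⟩ := Q.surj ((s : End₁) v)
  refine hs ?_
  rw [← hu, hr, Q.B_π, hE.cm_eq_zero]
  exact hc u (hW.mpr ⟨s, hu.symm⟩)

end

/-- A two-group normalizing a group of odd order without fixed points fixes a line. -/
theorem good_of_acts : ∀ (n : ℕ), Below.{u} n := by
  intro n
  induction n using Nat.strong_induction_on with
  | _ n ih =>
    intro F _ _ w hn hF A S hAS
    obtain ⟨Q⟩ := exists_quad hF
    exact good_step Q hAS (ih _ hn)

theorem good {E : Type u} [Group E] [Finite E] {z : E} (hE : ExData z)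
    {A S : Subgroup (MulAut E)} (hAS : Acts z A S) : Good z S :=
  good_of_acts _ E z (Nat.lt_succ_self _) hE A S hAS

end Cfsg.Lib.Char.StableLine
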