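import Cfsg.Prelude.Def_Transfer
import Cfsg.Agent.Lib.Char.CanonExt
import Cfsg.Agent.Lib.Char.StableLine.Main
import Mathlib.GroupTheory.Sylow
import Mathlib.GroupTheory.Complement
import Mathlib.GroupTheory.Frattini
import Cfsg.Agent.Lib.PGroup.Basic

/-!
# Extending the faithful character of an extraspecial two-group
-/

set_option autoImplicit false
set_option linter.unusedSectionVars false
set_option linter.style.haveILetI false
set_option linter.unusedVariables false

namespace Cfsg.Lib.Char.StableLine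

open Cfsg Cfsg.Lib.Char MonoidAlgebra Module
open scoped commutatorElement

universe u v

local notation "ℂ[" G "]" => MonoidAlgebra ℂ G

theorem exData_of_extraspecial {E : Type u} [Group E] [Finite E] (h : Cfsg.IsExtraspecial 2 E) :
    ∃ z : E, ExData z ∧ (∀ x : E, x ∈ Subgroup.center E ↔ x = 1 ∨ x = z) := by
  classical
  obtain ⟨⟨hp, hfr, hcomm⟩, hcard⟩ := h
  haveI : Nontrivial (Subgroup.center E) := Finite.one_lt_card_iff_nontrivial.mp (by omega)
  obtain ⟨⟨z, hz⟩, hz1⟩ := exists_ne (1 : Subgroup.center E)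
  have hz1' : z ≠ 1 := fun h => hz1 (Subtype.ext h)
  have hZ : ∀ x : E, x ∈ Subgroup.center E ↔ x = 1 ∨ x = z := by
    intro x
    refine ⟨fun hx => ?_, ?_⟩
    · by_contra hne
      push Not at hne
      haveI := Fintype.ofFinite (Subgroup.center E)
      have h3 : ({1, ⟨z, hz⟩, ⟨x, hx⟩} : Finset (Subgroup.center E)).card = 3 := by
        rw [Finset.card_insert_of_notMem, Finset.card_pair]
        · exact fun h => hne.2 (congrArg Subtype.val h).symm
        · simp only [Finset.mem_insert, Finset.mem_singleton, not_or]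
          exact ⟨fun h => hz1 h.symm, fun h => hne.1 (congrArg Subtype.val h).symm⟩
      have h4 := Finset.card_le_univ ({1, ⟨z, hz⟩, ⟨x, hx⟩} : Finset (Subgroup.center E))
      rw [h3, ← Nat.card_eq_fintype_card, hcard] at h4
      omega
    · rintro (rfl | rfl)
      · exact one_mem _
      · exact hz
  have hz2 : z * z = 1 := by
    rcases (hZ _).mp (mul_mem hz hz) with h | h
    · exact h
    · exact absurd (mul_left_cancel (h.trans (mul_one z).symm)) hz1'
  refine ⟨z, ⟨hz1', hz2, fun x => (Subgroup.mem_center_iff.mp hz x).symm, fun x => ?_,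
    fun x y => ?_, fun x hx => (hZ x).mp (Subgroup.mem_center_iff.mpr fun g => (hx g).symm)⟩, hZ⟩
  · refine (hZ _).mp (hfr ▸ ?_)
    haveI : Fact (Nat.Prime 2) := ⟨Nat.prime_two⟩
    rw [← pow_two]
    exact Cfsg.Lib.PGroup.pow_mem_frattini hp x
  · have hc : ⁅x, y⁆ ∈ Subgroup.center E :=
      hcomm ▸ Subgroup.commutator_mem_commutator (Subgroup.mem_top x) (Subgroup.mem_top y)
    have e : x * y = ⁅x, y⁆ * (y * x) := by rw [commutatorElement_def]; group
    rcases (hZ _).mp hc with r | r
    · left; rw [e, r, one_mul]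
    · right; rw [e, r, Subgroup.mem_center_iff.mp hz]

section

variable {G : Type u} [Group G] [Finite G]

/-- The main extension theorem. -/
theorem extends_over (E H : Subgroup G) [E.Normal]
    (hE : Cfsg.IsExtraspecial 2 ↥E) (hEH : E ⊓ H = ⊥) (hEHtop : E ⊔ H = ⊤)
    (hfaith : ∀ h ∈ H, (∀ e ∈ E, h * e = e * h) → h = 1) (K : Subgroup G) (hKH : K ≤ H)
    (hKn : ∀ h ∈ H, ∀ k ∈ K, h * k * h⁻¹ ∈ K) (hKodd : Odd (Nat.card ↥K)) (hEK : ⁅E, K⁆ = E)
    (θ : Cfsg.IrrCharacter ↥E) (hθ : ∀ e : ↥E, (θ : ↥E → ℂ) e = (θ : ↥E → ℂ) 1 → e = 1) :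
    ∃ χ : Cfsg.IrrCharacter G, ∀ e : ↥E, (χ : G → ℂ) e = (θ : ↥E → ℂ) e := by
  classical
  haveI : Fact (Nat.Prime 2) := ⟨Nat.prime_two⟩
  haveI := Fintype.ofFinite E
  haveI := Fintype.ofFinite G
  obtain ⟨z, hX, hZ⟩ := exData_of_extraspecial hE
  obtain ⟨d, σ, hσi, hσθ⟩ := θ.2
  haveI := hσi
  haveI : Nontrivial (Fin d → ℂ) := ((isIrreducible_iff_submodule σ).mp hσi).1
  -- the central involution is `-1`
  have hσz : σ z = -1 := by
    obtain ⟨c, hc⟩ := exists_smul_of_comm σ (σ z) fun g => by rw [← map_mul, ← map_mul, hX.central]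
    have h1 : c * c = 1 := by
      refine smul_one_injective (W := Fin d → ℂ) ?_
      have := map_mul σ z z
      rw [hX.sq_z, map_one, hc, Algebra.smul_mul_assoc, one_mul, smul_smul] at this
      rw [← this, one_smul]
    rcases mul_self_eq_one_iff.mp h1 with r | r
    · exfalso
      refine hX.ne_one (hθ z ?_)
      rw [← hσθ, Representation.character, Representation.character, hc, r, one_smul, map_one σ]
    · rw [hc, r]; exact neg_one_smul ℂ (1 : Module.End ℂ (Fin d → ℂ))
  have hneg : ∀ x : E, σ.character (x * z) = -σ.character x := fun x => by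
    simp only [Representation.character]
    rw [map_mul σ, hσz]
    exact (congrArg _ (mul_neg_one (σ x))).trans (map_neg _ _)
  have hvan : ∀ x : E, x ≠ 1 → x ≠ z → σ.character x = 0 := by
    intro x hx1 hxz
    obtain ⟨y, hy⟩ : ∃ y, y * x ≠ x * y := by
      by_contra hh
      push Not at hh
      rcases hX.centre x (fun y => (hh y).symm) with r | r <;> contradiction
    have e : y * x * y⁻¹ = x * z := by
      rw [(hX.comm y x).resolve_left hy, ← hX.central (x * y), mul_assoc, mul_assoc, mul_inv_cancel,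
        mul_one, hX.central]
    have h1 := Representation.char_conj σ x y
    rw [e, hneg] at h1
    exact CharZero.eq_neg_self_iff.mp h1.symm
  have hinv : ∀ (g : G) (n : E), σ.character (MulAut.conjNormal g n) = σ.character n := by
    intro g n
    by_cases h1 : n = 1
    · rw [h1, map_one]
    by_cases hz : n = z
    · rw [hz, hX.auto_fix (MulAut.conjNormal g)]
    rw [hvan n h1 hz, hvan]
    · exact fun h => h1 ((MulAut.conjNormal g).injective (h.trans (map_one _).symm))
    · exact fun h => hz ((MulAut.conjNormal g).injective (h.trans (hX.auto_fix _).symm))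
  -- the acting groups
  let c : H →* MulAut E := MulAut.conjNormal.comp H.subtype
  have hc : ∀ (h : H) (e : E), ((c h e : E) : G) = (h : G) * e * (h : G)⁻¹ :=
    fun h e => MulAut.conjNormal_apply _ _
  have hcinj : Function.Injective c := (injective_iff_map_eq_one c).mpr fun h hh => by
    refine Subtype.ext (hfaith h h.2 fun e he => ?_)
    have := congrArg Subtype.val (MulEquiv.congr_fun hh ⟨e, he⟩)
    rw [hc] at this
    exact mul_inv_eq_iff_eq_mul.mp this
  let T : Sylow 2 H := default
  let A : Subgroup (MulAut E) := (K.subgroupOf H).map c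
  let S : Subgroup (MulAut E) := (T : Subgroup H).map c
  have hfixK : ∀ x : E, (∀ a ∈ A, a x = x) → x = 1 ∨ x = z := by
    intro x hx
    have hxk : ∀ k ∈ K, ∀ w : E, hX.cm x (MulAut.conjNormal k w) = hX.cm x w := fun k hk w => by
      have := hX.cm_auto (MulAut.conjNormal k : MulAut E) x w
      rwa [show MulAut.conjNormal k x = x from hx _ ⟨⟨k, hKH hk⟩, hk, rfl⟩] at this
    let W : Subgroup G := (Subgroup.centralizer ({x} : Set E)).map E.subtype
    have hW : ∀ e : E, (e : G) ∈ W ↔ x * e = e * x := fun e => by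
      rw [show (e : G) = E.subtype e from rfl, Subgroup.mem_map_iff_mem E.subtype_injective,
        Subgroup.mem_centralizer_singleton_iff]
      exact eq_comm
    have hle : ⁅E, K⁆ ≤ W := by
      rw [Subgroup.commutator_le]
      intro e he k hk
      have hmem : ⁅e, k⁆ = (((⟨e, he⟩ : E) * MulAut.conjNormal k (⟨e, he⟩ : E)⁻¹ : E) : G) := by
        rw [Subgroup.coe_mul, MulAut.conjNormal_apply, commutatorElement_def, Subgroup.coe_inv]
        group
      rw [hmem, hW, ← hX.cm_eq_zero, hX.cm_symm, hX.cm_mul, hX.cm_symm _ x, hX.cm_symm _ x,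
        hxk k hk]
      have h0 : hX.cm x ((⟨e, he⟩ : E) * (⟨e, he⟩ : E)⁻¹) = 0 := by
        rw [mul_inv_cancel, hX.cm_eq_zero]; simp
      rwa [hX.cm_symm, hX.cm_mul, hX.cm_symm _ x, hX.cm_symm _ x] at h0
    refine hX.centre x fun y => (hW y).mp (hle ?_)
    rw [hEK]; exact y.2
  have hAS : Acts z A S :=
    { odd := odd_of_dvd hKodd (by
        have := Subgroup.card_map_dvd (K.subgroupOf H) c
        rwa [Nat.card_congr (Subgroup.subgroupOfEquivOfLe hKH).toEquiv] at this)
      two := T.2.map c
      norm := by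
        rintro _ ⟨s, hs, rfl⟩ _ ⟨a, ha, rfl⟩
        exact ⟨s * a * s⁻¹, hKn (s : G) s.2 (a : G) ha, by simp⟩
      fix := hfixK }
  obtain ⟨P, hP, hPfix⟩ := good hX hAS
  -- the image of the idempotent
  let σ' : ℂ[E] →ₐ[ℂ] Module.End ℂ (Fin d → ℂ) := MonoidAlgebra.lift ℂ _ E σ
  have hσ' : ∀ (g : E) (r : ℂ), σ' (single g r) = r • σ g := fun g r => MonoidAlgebra.lift_single σ g r
  have hσof : ∀ g : E, σ' (of ℂ E g) = σ g := fun g => by rw [MonoidAlgebra.of_apply, hσ', one_smul]
  set p := σ' P with hp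
  have hp0 : p ≠ 0 := by
    have htr : ∀ a : ℂ[E], LinearMap.trace ℂ _ (σ' a) = (d : ℂ) * (a.coeff 1 - a.coeff z) := by
      intro a
      induction a using MonoidAlgebra.induction_linear with
      | zero => simp
      | add a b ha hb => simp only [map_add, ha, hb, coeff_add, Finsupp.add_apply]; ring
      | single g r =>
        rw [hσ', map_smul]
        have h1 : σ.character 1 = (d : ℂ) := by
          rw [Representation.char_one, Module.finrank_fintype_fun_eq_card, Fintype.card_fin]
        show r • σ.character g = _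
        by_cases hg1 : g = 1
        · subst hg1; simp [h1, hX.ne_one.symm, mul_comm]
        by_cases hgz : g = z
        · subst hgz
          have := hneg 1
          rw [one_mul, h1] at this
          simp [this, hX.ne_one, mul_comm]
        simp [hvan g hg1 hgz, hg1, hgz]
    intro h0
    have h1 := htr P
    rw [← hp, h0, map_zero] at h1
    have hz : P.coeff z = -P.coeff 1 := by
      have := congrArg (fun x : ℂ[E] => x.coeff z) hP.minus
      rw [MonoidAlgebra.of_apply] at this
      simp only [coeff_neg, Finsupp.neg_apply] at this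
      rw [coeff_single_mul_eq_mul_coeff 1 (fun m _ => ⟨fun e => mul_left_cancel (e.trans (mul_one z).symm),
        fun e => by rw [e, mul_one]⟩), one_mul] at this
      rw [this, neg_neg]
    have hd : (d : ℂ) ≠ 0 := by
      intro hd0
      have hd' : d = 0 := by exact_mod_cast hd0
      subst hd'
      exact not_nontrivial (Fin 0 → ℂ) inferInstance
    rw [hz, sub_neg_eq_add, eq_comm, mul_eq_zero] at h1
    rcases h1 with r | r
    · exact hd r
    · exact hP.coeff_one_ne_zero (by simpa [← two_mul] using r)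
  -- its range is a line
  obtain ⟨v, hv0, hline⟩ : ∃ v, v ≠ 0 ∧ ∀ w, ∃ a : ℂ, p w = a • v := by
    obtain ⟨w₀, hw₀⟩ : ∃ w, p w ≠ 0 := by
      by_contra h
      push Not at h
      exact hp0 (LinearMap.ext h)
    refine ⟨p w₀, hw₀, fun w => ?_⟩
    have htop : Submodule.span ℂ (Set.range fun g : E => σ g (p w₀)) = ⊤ := by
      refine (((isIrreducible_iff_submodule σ).mp hσi).2 _ ?_).resolve_left ?_
      · intro g x hx
        induction hx using Submodule.span_induction with
        | mem y hy =>
          obtain ⟨g', rfl⟩ := hy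
          exact Submodule.subset_span ⟨g * g', by simp [map_mul]⟩
        | zero => simp
        | add a b _ _ ha hb => rw [map_add]; exact Submodule.add_mem _ ha hb
        | smul r a _ ha => rw [map_smul]; exact Submodule.smul_mem _ r ha
      · intro h
        have hmem : σ 1 (p w₀) ∈ Submodule.span ℂ (Set.range fun g : E => σ g (p w₀)) :=
          Submodule.subset_span ⟨1, rfl⟩
        rw [h, Submodule.mem_bot, map_one] at hmem
        exact hw₀ hmem
    have hwmem : w ∈ Submodule.span ℂ (Set.range fun g : E => σ g (p w₀)) := htop ▸ Submodule.mem_top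
    induction hwmem using Submodule.span_induction with
    | mem y hy =>
      obtain ⟨g, rfl⟩ := hy
      obtain ⟨a, ha⟩ := hP.corner (of ℂ E g)
      refine ⟨a, ?_⟩
      have := LinearMap.congr_fun (congrArg σ' ha) w₀
      rw [map_mul σ', map_mul σ', hσof, map_smul σ'] at this
      exact this
    | zero => exact ⟨0, by simp⟩
    | add a b _ _ ha hb =>
      obtain ⟨x, hx⟩ := ha
      obtain ⟨y, hy⟩ := hb
      exact ⟨x + y, by rw [map_add, hx, hy, add_smul]⟩
    | smul r a _ ha =>
      obtain ⟨x, hx⟩ := ha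
      exact ⟨r * x, by rw [map_smul, hx, smul_smul]⟩
  -- the partial extension
  let SG : Subgroup G := (T : Subgroup H).map H.subtype
  let Pg : Subgroup G := E ⊔ SG
  let LS : Subgroup (extGroup σ) :=
    { carrier := {e | extProj σ e ∈ SG ∧ extOp σ e * p = p}
      one_mem' := ⟨by rw [map_one]; exact SG.one_mem, by rw [map_one, one_mul]⟩
      mul_mem' := fun {a b} ha hb => ⟨by rw [map_mul]; exact SG.mul_mem ha.1 hb.1, by
        rw [map_mul, mul_assoc, hb.2, ha.2]⟩
      inv_mem' := fun {a} ha => ⟨by rw [map_inv]; exact SG.inv_mem ha.1, by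
        calc extOp σ a⁻¹ * p = extOp σ a⁻¹ * (extOp σ a * p) := by rw [ha.2]
          _ = p := by rw [← mul_assoc, ← map_mul, inv_mul_cancel, map_one, one_mul]⟩ }
  haveI hgn : (extGraph σ).range.Normal := ⟨by
    rintro _ ⟨n, rfl⟩ e
    exact ⟨_, (conj_extGraph σ e n).symm⟩⟩
  let L : Subgroup (extGroup σ) := (extGraph σ).range ⊔ LS
  have hLsur : ∀ x ∈ Pg, ∃ e ∈ L, extProj σ e = x := by
    intro x hx
    obtain ⟨n, hn, y, ⟨s, hs, rfl⟩, rfl⟩ := Subgroup.mem_sup_of_normal_left.mp hx
    obtain ⟨e, he⟩ := extProj_surjective σ hinv (s : G)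
    have hcomm : ∀ a : ℂ[E], extOp σ e * σ' a = σ' (domCongr ℂ ℂ (c s) a) * extOp σ e := by
      intro a
      induction a using MonoidAlgebra.induction_linear with
      | zero => simp
      | add a b ha hb => simp only [map_add, mul_add, add_mul, ha, hb]
      | single g r =>
        rw [domCongr_single, hσ', hσ', Algebra.mul_smul_comm, Algebra.smul_mul_assoc]
        congr 1
        have := e.2 g
        rw [← extProj_apply, he] at this
        exact this
    have hup : extOp σ e * p = p * extOp σ e := by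
      rw [hp, hcomm, hPfix _ ⟨s, hs, rfl⟩]
    obtain ⟨w, hw⟩ : ∃ w, p w = v := by
      obtain ⟨w, hw⟩ : ∃ w, p w ≠ 0 := by
        by_contra h
        push Not at h
        exact hp0 (LinearMap.ext h)
      obtain ⟨a, ha⟩ := hline w
      have ha0 : a ≠ 0 := fun h => hw (by rw [ha, h, zero_smul])
      exact ⟨a⁻¹ • w, by rw [map_smul, ha, smul_smul, inv_mul_cancel₀ ha0, one_smul]⟩
    obtain ⟨k, hk⟩ := hline (extOp σ e w)
    have huv : extOp σ e v = k • v := by
      rw [← hw, ← Module.End.mul_apply, hup, Module.End.mul_apply, hk, hw]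
    have hk0 : k ≠ 0 := by
      intro h0
      rw [h0, zero_smul] at huv
      apply hv0
      have := congrArg (extOp σ e⁻¹) huv
      rwa [map_zero, ← Module.End.mul_apply, ← map_mul, inv_mul_cancel, map_one] at this
    refine ⟨extGraph σ ⟨n, hn⟩ * (e * extScalar σ (Units.mk0 k hk0)⁻¹), mul_mem
      (Subgroup.mem_sup_left ⟨_, rfl⟩) (Subgroup.mem_sup_right ⟨?_, ?_⟩), ?_⟩
    · rw [map_mul, extProj_extScalar, mul_one, he]; exact ⟨s, hs, rfl⟩
    · rw [map_mul, extOp_extScalar, mul_assoc, Algebra.smul_mul_assoc, one_mul, Algebra.mul_smul_comm]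
      refine LinearMap.ext fun u => ?_
      obtain ⟨a, ha⟩ := hline u
      show ((Units.mk0 k hk0)⁻¹ : ℂˣ).val • extOp σ e (p u) = p u
      rw [ha, map_smul, huv, smul_smul, smul_smul, Units.val_inv_eq_inv_val, Units.val_mk0]
      congr 1
      field_simp
    · rw [map_mul, map_mul, extProj_extScalar, mul_one, he, extProj_extGraph]; rfl
  have hLtriv : ∀ k, extScalar σ k ∈ L → k = 1 := by
    intro k hk
    obtain ⟨_, ⟨n, rfl⟩, l, hl, hnl⟩ := Subgroup.mem_sup_of_normal_left.mp hk
    have h1 := congrArg (extProj σ) hnl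
    rw [map_mul, extProj_extScalar, extProj_extGraph] at h1
    obtain ⟨s, hs, hse⟩ := hl.1
    have hlH : extProj σ l ∈ E ⊓ H :=
      ⟨by rw [eq_inv_of_mul_eq_one_right h1]; exact E.inv_mem n.2, by rw [← hse]; exact s.2⟩
    rw [hEH, Subgroup.mem_bot] at hlH
    rw [hlH, mul_one] at h1
    have hn1 : n = 1 := Subtype.ext h1
    rw [hn1, map_one, one_mul] at hnl
    have h2 := hl.2
    rw [hnl, extOp_extScalar, Algebra.smul_mul_assoc, one_mul] at h2
    exact Units.ext (smul_left_injective ℂ hp0 (h2.trans (one_smul ℂ p).symm))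
  have huniq : ∀ a ∈ L, ∀ b ∈ L, extProj σ a = extProj σ b → a = b := by
    intro a ha b hb h
    obtain ⟨k, hk⟩ := exists_scalar_of_extProj_eq σ h
    have : extScalar σ k ∈ L := by
      have h1 : b⁻¹ * a ∈ L := mul_mem (inv_mem hb) ha
      rwa [hk, inv_mul_cancel_left] at h1
    rw [hk, hLtriv k this, map_one, mul_one]
  choose sec hsec hsec' using hLsur
  have hEP : E ≤ Pg := le_sup_left
  let ρP : Representation ℂ Pg (Fin d → ℂ) :=
    { toFun := fun x => extOp σ (sec x x.2)
      map_one' := by rw [huniq _ (hsec _ _) 1 L.one_mem (by rw [hsec', map_one]; rfl), map_one]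
      map_mul' := fun a b => by
        rw [huniq _ (hsec _ _) (sec a a.2 * sec b b.2) (mul_mem (hsec _ _) (hsec _ _))
          (by rw [map_mul, hsec', hsec', hsec']; rfl), map_mul] }
  have hρP : ∀ n : E, ρP ⟨n, hEP n.2⟩ = σ n := fun n => by
    show extOp σ (sec _ _) = _
    rw [huniq _ (hsec _ _) (extGraph σ n) (Subgroup.mem_sup_left ⟨n, rfl⟩)
      (by rw [hsec', extProj_extGraph]), extOp_extGraph]
  have hodd : (Pg.index : ℤ) ∈ extExponents σ := index_mem_extExponents σ hinv Pg hEP ρP hρP
  -- the index is odd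
  have hPg : ¬ 2 ∣ Pg.index := by
    have hcardH : Nat.card G = Nat.card E * Nat.card H := by
      rw [← Nat.card_prod]
      refine (Nat.card_eq_of_bijective (fun x : E × H => (x.1 : G) * x.2) ⟨?_, ?_⟩).symm
      · intro x y h
        have h1 : ((y.1 : G))⁻¹ * x.1 ∈ E ⊓ H := by
          refine Subgroup.mem_inf.mpr ⟨mul_mem (inv_mem y.1.2) x.1.2, ?_⟩
          have : ((y.1 : G))⁻¹ * x.1 = (y.2 : G) * (x.2 : G)⁻¹ := by
            rw [eq_mul_inv_iff_mul_eq, mul_assoc, show (x.1 : G) * x.2 = y.1 * y.2 from h, inv_mul_cancel_left]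
          rw [this]
          exact mul_mem y.2.2 (inv_mem x.2.2)
        rw [hEH, Subgroup.mem_bot, inv_mul_eq_one] at h1
        have h' : (x.1 : G) * x.2 = y.1 * y.2 := h
        rw [h1] at h'
        exact Prod.ext (Subtype.ext h1.symm) (Subtype.ext (mul_left_cancel h'))
      · intro g
        obtain ⟨e, he, h, hh, r⟩ := Subgroup.mem_sup_of_normal_left.mp (hEHtop ▸ Subgroup.mem_top g)
        exact ⟨(⟨e, he⟩, ⟨h, hh⟩), r⟩
    have hcardP : Nat.card E * Nat.card SG ∣ Nat.card Pg := by
      rw [← Nat.card_prod]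
      let f : E × SG → Pg := fun x => ⟨(x.1 : G) * x.2, mul_mem (hEP x.1.2) (Subgroup.mem_sup_right x.2.2)⟩
      refine dvd_of_eq (Nat.card_eq_of_bijective f ⟨?_, ?_⟩)
      · intro x y h
        have h' : (x.1 : G) * x.2 = y.1 * y.2 := congrArg Subtype.val h
        have h1 : ((y.1 : G))⁻¹ * x.1 ∈ E ⊓ H := by
          refine Subgroup.mem_inf.mpr ⟨mul_mem (inv_mem y.1.2) x.1.2, ?_⟩
          have : ((y.1 : G))⁻¹ * x.1 = (y.2 : G) * (x.2 : G)⁻¹ := by
            rw [eq_mul_inv_iff_mul_eq, mul_assoc, h', inv_mul_cancel_left]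
          rw [this]
          obtain ⟨a, _, ha⟩ := y.2.2
          obtain ⟨b, _, hb⟩ := x.2.2
          rw [← ha, ← hb]
          exact mul_mem a.2 (inv_mem b.2)
        rw [hEH, Subgroup.mem_bot, inv_mul_eq_one] at h1
        exact Prod.ext (Subtype.ext h1.symm) (Subtype.ext (mul_left_cancel (h1 ▸ h' : (x.1 : G) * x.2 = x.1 * y.2)))
      · intro g
        obtain ⟨e, he, h, hh, r⟩ := Subgroup.mem_sup_of_normal_left.mp g.2
        exact ⟨(⟨e, he⟩, ⟨h, hh⟩), Subtype.ext r⟩
    intro h2
    have h3 := mul_dvd_mul hcardP h2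
    rw [Subgroup.card_mul_index Pg, hcardH, Subgroup.card_map_of_injective H.subtype_injective,
      ← (T : Subgroup H).card_mul_index, mul_assoc] at h3
    have h4 := (Nat.mul_dvd_mul_iff_left Nat.card_pos).mp ((Nat.mul_dvd_mul_iff_left Nat.card_pos).mp h3)
    exact T.not_dvd_index h4
  -- a power of two is an exponent
  obtain ⟨j, hj⟩ : ∃ j, d = 2 ^ j := by
    have h1 := charDegree_dvd_card (isIrrCharacter_character σ)
    have h2 := (isIrrCharacter_character σ).apply_one_eq_charDegree
    rw [Representation.char_one, Module.finrank_fintype_fun_eq_card, Fintype.card_fin] at h2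
    have h3 : d = charDegree σ.character := by exact_mod_cast h2
    obtain ⟨m, hm⟩ := (IsPGroup.iff_card).mp hE.1.1
    rw [← h3, hm] at h1
    obtain ⟨j, -, hj⟩ := (Nat.dvd_prime_pow Nat.prime_two).mp h1
    exact ⟨j, hj⟩
  have hpow : ((4 * d : ℕ) : ℤ) ∈ extExponents σ := by
    refine ⟨((LinearMap.det.comp (extOp σ)).toHomUnits) ^ 4, fun n => ?_, fun k => ?_⟩
    · refine Units.ext ?_
      rw [MonoidHom.pow_apply, Units.val_pow_eq_pow_val, MonoidHom.coe_toHomUnits, MonoidHom.comp_apply,
        extOp_extGraph, ← map_pow, ← map_pow]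
      have h4 : n ^ 4 = 1 := by
        rw [show 4 = 2 * 2 from rfl, pow_mul, pow_two n]
        rcases hX.sq n with r | r <;> rw [r]
        · exact one_pow _
        · rw [pow_two, hX.sq_z]
      rw [h4, map_one, map_one, Units.val_one]
    · refine Units.ext ?_
      rw [MonoidHom.pow_apply, Units.val_pow_eq_pow_val, MonoidHom.coe_toHomUnits, MonoidHom.comp_apply,
        extOp_extScalar, LinearMap.det_smul, map_one, mul_one, Module.finrank_fintype_fun_eq_card,
        Fintype.card_fin, ← pow_mul, zpow_natCast, Units.val_pow_eq_pow_val, mul_comm]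
  have hone : (1 : ℤ) ∈ extExponents σ := by
    have hcop : Nat.gcd Pg.index (4 * d) = 1 := by
      refine Nat.Coprime.gcd_eq_one ?_
      rw [hj, show 4 * 2 ^ j = 2 ^ (j + 2) by ring]
      exact Nat.Coprime.pow_right _ ((Nat.coprime_two_right).mpr (Nat.odd_iff.mpr (by omega)))
    have hb := Nat.gcd_eq_gcd_ab Pg.index (4 * d)
    rw [hcop, Nat.cast_one] at hb
    rw [hb]
    refine add_mem ?_ ?_
    · rw [mul_comm, ← smul_eq_mul]; exact zsmul_mem hodd _
    · rw [mul_comm, ← smul_eq_mul]; exact zsmul_mem hpow _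
  obtain ⟨ρ, hρ⟩ := exists_extension_of_hom σ hinv hone
  haveI : ρ.IsIrreducible := by
    rw [isIrreducible_iff_submodule]
    refine ⟨inferInstance, fun q hq => ((isIrreducible_iff_submodule σ).mp hσi).2 q fun n x hx => ?_⟩
    rw [← hρ]; exact hq _ x hx
  refine ⟨⟨ρ.character, isIrrCharacter_character ρ⟩, fun e => ?_⟩
  rw [← hσθ]
  show LinearMap.trace ℂ _ (ρ (e : G)) = LinearMap.trace ℂ _ (σ e)
  rw [hρ]

end

end Cfsg.Lib.Char.StableLine
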