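import Cfsg.Agent.Lib.Char.StableLine.Alg
import Cfsg.Agent.Lib.Char.StableLine.Data
import Mathlib.RingTheory.RootsOfUnity.AlgebraicallyClosed
import Mathlib.Analysis.Complex.Polynomial.Basic

/-!
# Character idempotents and lifts of isometries
-/

set_option autoImplicit false
set_option linter.unusedSectionVars false
set_option linter.style.haveILetI false

namespace Cfsg.Lib.Char.StableLine

open scoped ComplexConjugate
open MonoidAlgebra

universe u

variable {E : Type u} [Group E] [Finite E] {z : E}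

local notation "ℂ[" G "]" => MonoidAlgebra ℂ G

/-- An automorphism preserves a subgroup together with a character of it. -/
def Fixes {U : Subgroup E} (χ : U →* ℂˣ) (f : MulAut E) : Prop :=
  ∀ u : U, ∃ h : f (u : E) ∈ U, χ ⟨f u, h⟩ = χ u

/-- The idempotent of a character of a subgroup. -/
noncomputable def eChar {U : Subgroup E} [Fintype U] (χ : U →* ℂˣ) : ℂ[E] :=
  ((Fintype.card U : ℂ))⁻¹ • ∑ u : U, ((χ u⁻¹ : ℂˣ) : ℂ) • of ℂ E (u : E)

section eChar

variable {U : Subgroup E} [Fintype U] (χ : U →* ℂˣ)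

theorem of_mul_eChar (u : U) : of ℂ E (u : E) * eChar χ = ((χ u : ℂˣ) : ℂ) • eChar χ := by
  have key : of ℂ E (u : E) * ∑ w : U, ((χ w⁻¹ : ℂˣ) : ℂ) • of ℂ E (w : E) =
      ((χ u : ℂˣ) : ℂ) • ∑ w : U, ((χ w⁻¹ : ℂˣ) : ℂ) • of ℂ E (w : E) := by
    rw [Finset.mul_sum, Finset.smul_sum]
    refine Fintype.sum_equiv (Equiv.mulLeft u) _ _ fun w => ?_
    rw [Algebra.mul_smul_comm, ← map_mul (of ℂ E), Equiv.coe_mulLeft, Subgroup.coe_mul, mul_inv_rev,
      map_mul χ, Units.val_mul, smul_smul]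
    congr 1
    rw [mul_left_comm, ← Units.val_mul (χ u), ← map_mul, mul_inv_cancel, map_one, Units.val_one,
      mul_one]
  rw [eChar, Algebra.mul_smul_comm, key, smul_comm]

theorem eChar_mul_of (u : U) : eChar χ * of ℂ E (u : E) = ((χ u : ℂˣ) : ℂ) • eChar χ := by
  have key : (∑ w : U, ((χ w⁻¹ : ℂˣ) : ℂ) • of ℂ E (w : E)) * of ℂ E (u : E) =
      ((χ u : ℂˣ) : ℂ) • ∑ w : U, ((χ w⁻¹ : ℂˣ) : ℂ) • of ℂ E (w : E) := by
    rw [Finset.sum_mul, Finset.smul_sum]
    refine Fintype.sum_equiv (Equiv.mulRight u) _ _ fun w => ?_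
    rw [Algebra.smul_mul_assoc, ← map_mul (of ℂ E), Equiv.coe_mulRight, Subgroup.coe_mul, mul_inv_rev,
      map_mul χ, Units.val_mul, smul_smul]
    congr 1
    rw [← mul_assoc, ← Units.val_mul (χ u), ← map_mul, mul_inv_cancel, map_one, Units.val_one,
      one_mul]
  rw [eChar, Algebra.smul_mul_assoc, key, smul_comm]

theorem eChar_idem : eChar χ * eChar χ = eChar χ := by
  conv_lhs => arg 1; rw [eChar]
  rw [Algebra.smul_mul_assoc, Finset.sum_mul]
  simp only [Algebra.smul_mul_assoc, of_mul_eChar, smul_smul, ← Units.val_mul, ← map_mul,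
    inv_mul_cancel, map_one, Units.val_one, Finset.sum_const, Finset.card_univ, one_smul]
  rw [← Nat.cast_smul_eq_nsmul ℂ, smul_smul, inv_mul_cancel₀ (by exact_mod_cast Fintype.card_ne_zero),
    one_smul]

theorem adj_eChar : adj (eChar χ) = eChar χ := by
  rw [eChar, adj_smul, map_inv₀, map_natCast, map_sum]
  congr 1
  refine Fintype.sum_equiv (Equiv.inv U) _ _ fun w => ?_
  rw [adj_smul, adj_of, Equiv.inv_apply, inv_inv, Subgroup.coe_inv]
  congr 1
  have hn : ‖((χ w⁻¹ : ℂˣ) : ℂ)‖ = 1 :=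
    Complex.norm_eq_one_of_pow_eq_one (n := Fintype.card U)
      (by rw [← Units.val_pow_eq_pow_val, ← map_pow, pow_card_eq_one, map_one, Units.val_one])
      Fintype.card_ne_zero
  rw [← Complex.inv_eq_conj hn, map_inv, Units.val_inv_eq_inv_val, inv_inv]

theorem coeff_eChar_one : (eChar χ).coeff 1 = ((Fintype.card U : ℂ))⁻¹ := by
  classical
  rw [eChar, coeff_smul, Finsupp.smul_apply, coeff_sum, Finsupp.finsetSum_apply,
    Finset.sum_eq_single (1 : U)]
  · simp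
  · intro w _ hw
    have : (w : E) ≠ 1 := fun h => hw (Subtype.ext h)
    simp [MonoidAlgebra.of_apply, this]
  · simp

theorem eChar_ne_zero : eChar χ ≠ 0 := fun h => by
  have := coeff_eChar_one χ
  rw [h] at this
  simp [eq_comm] at this

theorem domCongr_eChar_to {U' : Subgroup E} [Fintype U'] (χ' : U' →* ℂˣ) (f : MulAut E)
    (hcard : Fintype.card U = Fintype.card U')
    (hf : ∀ u : U, ∃ h : f (u : E) ∈ U', χ' ⟨f (u : E), h⟩ = χ u) :
    domCongr ℂ ℂ f (eChar χ) = eChar χ' := by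
  rw [eChar, eChar, map_smul, map_sum, hcard]
  congr 1
  let σ : U → U' := fun u => ⟨f (u : E), (hf u).1⟩
  have hσi : Function.Injective σ :=
    fun a b h => Subtype.ext (f.injective (congrArg Subtype.val h))
  have hσ : Function.Bijective σ := (Fintype.bijective_iff_injective_and_card σ).mpr ⟨hσi, hcard⟩
  refine Fintype.sum_bijective σ hσ _ _ fun u => ?_
  rw [map_smul, MonoidAlgebra.of_apply, domCongr_single]
  congr 2
  rw [map_inv, map_inv]
  exact congrArg (·⁻¹) (hf u).2.symm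

theorem domCongr_eChar (f : MulAut E) (hf : Fixes χ f) :
    domCongr ℂ ℂ f (eChar χ) = eChar χ :=
  domCongr_eChar_to χ χ f rfl hf

variable (hE : ExData z)

include hE in
theorem z_mul_eChar (hz : z ∈ U) (hχ : χ ⟨z, hz⟩ = -1) : of ℂ E z * eChar χ = -eChar χ := by
  rw [of_mul_eChar χ ⟨z, hz⟩, hχ]; simp

include hE in
/-- Elements moving the character annihilate the corner. -/
theorem eChar_corner_eq_zero (hz : z ∈ U) (hχ : χ ⟨z, hz⟩ = -1) {x : E} (u : U)
    (hux : (u : E) * x ≠ x * u) : eChar χ * of ℂ E x * eChar χ = 0 := by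
  have h : (u : E) * x = x * u * z := (hE.comm u x).resolve_left hux
  have e2 : eChar χ * of ℂ E ((u : E) * x) * eChar χ =
      ((χ u : ℂˣ) : ℂ) • (eChar χ * of ℂ E x * eChar χ) := by
    rw [map_mul, ← mul_assoc, eChar_mul_of, Algebra.smul_mul_assoc, Algebra.smul_mul_assoc]
  have e1 : eChar χ * of ℂ E ((u : E) * x) * eChar χ =
      -(((χ u : ℂˣ) : ℂ) • (eChar χ * of ℂ E x * eChar χ)) := by
    rw [h, map_mul, map_mul, mul_assoc, mul_assoc (of ℂ E x * of ℂ E (u : E)),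
      z_mul_eChar χ hE hz hχ, mul_neg, mul_neg, mul_assoc (of ℂ E x), of_mul_eChar χ u,
      Algebra.mul_smul_comm, Algebra.mul_smul_comm, ← mul_assoc]
  rw [e2] at e1
  have e3 : (2 : ℂ) • (((χ u : ℂˣ) : ℂ) • (eChar χ * of ℂ E x * eChar χ)) = 0 := by
    rw [two_smul]; nth_rewrite 2 [e1]; exact add_neg_cancel _
  simpa using e3

include hE in
/-- A self-centralizing subgroup gives a rank one idempotent. -/
theorem rankOne_eChar (hz : z ∈ U) (hχ : χ ⟨z, hz⟩ = -1)
    (hcen : ∀ x, (∀ u ∈ U, u * x = x * u) → x ∈ U) : RankOne z (eChar χ) where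
  ne_zero := eChar_ne_zero χ
  adj_eq := adj_eChar χ
  minus := z_mul_eChar χ hE hz hχ
  idem := eChar_idem χ
  corner := by
    refine corner_of_group fun g => ?_
    by_cases hg : g ∈ U
    · exact ⟨((χ ⟨g, hg⟩ : ℂˣ) : ℂ), by
        rw [eChar_mul_of χ ⟨g, hg⟩, Algebra.smul_mul_assoc, eChar_idem]⟩
    · obtain ⟨u, hu, hne⟩ : ∃ u ∈ U, u * g ≠ g * u := by
        by_contra h
        push Not at h
        exact hg (hcen g h)
      exact ⟨0, by rw [zero_smul, eChar_corner_eq_zero χ hE hz hχ ⟨u, hu⟩ hne]⟩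

end eChar

variable (hE : ExData z)

/-- A character negative at the central involution. -/
theorem exists_char (U : Subgroup E) (hz : z ∈ U) (hab : ∀ x ∈ U, ∀ y ∈ U, x * y = y * x)
    (h1 : z ≠ 1) (h2 : z * z = 1) : ∃ χ : U →* ℂˣ, χ ⟨z, hz⟩ = -1 := by
  letI : CommGroup U := { (inferInstance : Group U) with
    mul_comm := fun a b => Subtype.ext (hab a a.2 b b.2) }
  haveI : HasEnoughRootsOfUnity ℂ (Monoid.exponent U) := by
    haveI : NeZero (Monoid.exponent U) := ⟨Monoid.exponent_ne_zero_of_finite⟩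
    infer_instance
  obtain ⟨χ, hχ⟩ := CommGroup.exists_apply_ne_one_of_hasEnoughRootsOfUnity U ℂ
    (a := ⟨z, hz⟩) (fun h => h1 (congrArg Subtype.val h))
  refine ⟨χ, ?_⟩
  have h3 : χ ⟨z, hz⟩ * χ ⟨z, hz⟩ = 1 := by
    rw [← map_mul, show (⟨z, hz⟩ : U) * ⟨z, hz⟩ = 1 from Subtype.ext h2, map_one]
  have h4 : ((χ ⟨z, hz⟩ : ℂˣ) : ℂ) * ((χ ⟨z, hz⟩ : ℂˣ) : ℂ) = 1 := congrArg Units.val h3
  rcases mul_self_eq_one_iff.mp h4 with h | h
  · exact absurd (Units.ext h) hχ
  · exact Units.ext h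

variable (A : Subgroup (MulAut E))

section invariant

variable (hA : Odd (Nat.card A)) (hfix : ∀ x : E, (∀ a ∈ A, a x = x) → x = 1 ∨ x = z)
  {U : Subgroup E} (hz : z ∈ U) (hab : ∀ x ∈ U, ∀ y ∈ U, x * y = y * x)
  (hel : ∀ x ∈ U, x * x = 1) (hinv : ∀ a ∈ A, ∀ x ∈ U, a x ∈ U)

include hE hA hab hel hinv in
theorem exists_inv_char : ∃ χ : U →* ℂˣ, χ ⟨z, hz⟩ = -1 ∧ ∀ a ∈ A, Fixes χ a := by
  classical
  obtain ⟨χ₀, hχ₀⟩ := exists_char U hz hab hE.ne_one hE.sq_z
  haveI := Fintype.ofFinite A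
  let t : A → U → U := fun a u => ⟨(a : MulAut E) (u : E), hinv a a.2 (u : E) u.2⟩
  let χ : U →* ℂˣ := MonoidHom.mk' (fun u => ∏ a : A, χ₀ (t a u)) fun u v => by
    rw [← Finset.prod_mul_distrib]
    exact Finset.prod_congr rfl fun a _ => by
      rw [← map_mul]; exact congrArg χ₀ (Subtype.ext (map_mul (a : MulAut E) (u : E) (v : E)))
  refine ⟨χ, ?_, fun a ha u => ⟨hinv a ha (u : E) u.2, ?_⟩⟩
  · show ∏ a : A, χ₀ (t a ⟨z, hz⟩) = -1
    rw [Finset.prod_congr rfl (g := fun _ => (-1 : ℂˣ)) (fun a _ => by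
      rw [← hχ₀]; exact congrArg χ₀ (Subtype.ext (hE.auto_fix (a : MulAut E)))),
      Finset.prod_const, Finset.card_univ, ← Nat.card_eq_fintype_card, hA.neg_one_pow]
  · show ∏ b : A, χ₀ (t b ⟨a (u : E), _⟩) = ∏ b : A, χ₀ (t b u)
    exact Fintype.prod_equiv (Equiv.mulRight ⟨a, ha⟩) _ _ fun b => congrArg χ₀ (Subtype.ext rfl)

include hE hA hfix hab hel hinv in
theorem inv_char_unique {χ χ' : U →* ℂˣ} (h : χ ⟨z, hz⟩ = -1) (h' : χ' ⟨z, hz⟩ = -1)
    (hi : ∀ a ∈ A, Fixes χ a) (hi' : ∀ a ∈ A, Fixes χ' a) : χ = χ' := by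
  classical
  letI : CommGroup U := { (inferInstance : Group U) with
    mul_comm := fun a b => Subtype.ext (hab a a.2 b b.2) }
  haveI := Fintype.ofFinite A
  refine MonoidHom.ext fun u => ?_
  let t : A → U → U := fun a u => ⟨(a : MulAut E) (u : E), hinv a a.2 (u : E) u.2⟩
  let p : U := ∏ a : A, t a u
  have hp : (p : E) = 1 ∨ (p : E) = z := by
    refine hfix p fun a ha => ?_
    let f : U →* U := MonoidHom.mk' (t ⟨a, ha⟩) fun v w =>
      Subtype.ext (map_mul (a : MulAut E) (v : E) (w : E))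
    have : f p = p := by
      rw [map_prod]
      exact Fintype.prod_equiv (Equiv.mulLeft ⟨a, ha⟩) _ _ fun b => Subtype.ext rfl
    exact congrArg Subtype.val this
  have hval : ∀ ψ : U →* ℂˣ, (∀ a ∈ A, Fixes ψ a) → ψ p = ψ u ^ Nat.card A := fun ψ hψ => by
    rw [map_prod, Finset.prod_congr rfl (g := fun _ => ψ u) (fun (a : A) _ => ((hψ (a : MulAut E) a.2) u).2),
      Finset.prod_const, Finset.card_univ, Nat.card_eq_fintype_card]
  have hpe : χ p = χ' p := by
    rcases hp with hp | hp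
    · rw [show p = 1 from Subtype.ext hp, map_one, map_one]
    · rw [show p = ⟨z, hz⟩ from Subtype.ext hp, h, h']
  rw [hval χ hi, hval χ' hi'] at hpe
  obtain ⟨k, hk⟩ := hA
  have hsq : ∀ ψ : U →* ℂˣ, ψ u ^ Nat.card A = ψ u := fun ψ => by
    rw [hk, pow_succ, pow_mul, ← map_pow, pow_two,
      show u * u = 1 from Subtype.ext (hel u u.2), map_one, one_pow, one_mul]
  rwa [hsq, hsq] at hpe

include hE hA hfix hab hel hinv in
theorem inv_char_fixed {χ : U →* ℂˣ} (h : χ ⟨z, hz⟩ = -1) (hi : ∀ a ∈ A, Fixes χ a)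
    (s : MulAut E) (hs : ∀ a ∈ A, s * a * s⁻¹ ∈ A) (hsU : ∀ x ∈ U, s x ∈ U) : Fixes χ s := by
  let f : U →* U := MonoidHom.mk' (fun u => ⟨s (u : E), hsU (u : E) u.2⟩) fun v w =>
    Subtype.ext (map_mul s (v : E) (w : E))
  have key : χ.comp f = χ := by
    refine inv_char_unique hE A hA hfix hz hab hel hinv ?_ h (fun a ha u => ⟨hinv a ha u u.2, ?_⟩) hi
    · rw [MonoidHom.comp_apply, show f ⟨z, hz⟩ = ⟨z, hz⟩ from Subtype.ext (hE.auto_fix s), h]
    · obtain ⟨hm, he⟩ := hi _ (hs a ha) (f u)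
      show χ (f ⟨a (u : E), _⟩) = χ (f u)
      rw [← he]
      refine congrArg χ (Subtype.ext ?_)
      show s (a (u : E)) = (s * a * s⁻¹) (s (u : E))
      simp [MulAut.mul_apply]
  exact fun u => ⟨hsU u u.2, DFunLike.congr_fun key u⟩

end invariant

namespace Quad

variable {hE} (Q : Quad hE)

/-- The fixed space of `A` is zero. -/
theorem eq_zero_of_act_fixed (hA : Odd (Nat.card A))
    (hfix : ∀ x : E, (∀ a ∈ A, a x = x) → x = 1 ∨ x = z) {v : Q.V}
    (hv : ∀ a ∈ A, Q.act a v = v) : v = 0 := by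
  classical
  obtain ⟨x, rfl⟩ := Q.surj v
  haveI := Fintype.ofFinite A
  let c : A → ZMod 2 := fun a => if (a : MulAut E) x = x then 0 else 1
  have hc : ∀ a : A, (a : MulAut E) x = x * ExData.zp z (c a) := fun a => by
    simp only [c]
    split_ifs with h1
    · rw [ExData.zp_zero, mul_one, h1]
    · rw [ExData.zp_one]
      exact (Q.π_eq (by rw [← Q.act_π, hv a a.2])).resolve_left h1
  have hadd : ∀ a b : A, c (a * b) = c a + c b := fun a b => hE.zp_inj (by
    have e := hc (a * b)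
    rw [Subgroup.coe_mul, MulAut.mul_apply, hc b, _root_.map_mul (a : MulAut E), hE.auto_zp, hc a,
      mul_assoc, ← hE.zp_add] at e
    exact (mul_left_cancel e).symm)
  have hc0 : ∀ a : A, c a = 0 := fun a => by
    let f : A →* Multiplicative (ZMod 2) :=
      MonoidHom.mk' (fun a => Multiplicative.ofAdd (c a)) fun a b => by rw [hadd]; rfl
    have h1 : orderOf (f a) ∣ Nat.card A := (orderOf_map_dvd f a).trans (orderOf_dvd_natCard a)
    have h2 : orderOf (f a) ∣ 2 := by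
      simpa using orderOf_dvd_natCard (f a)
    have h3 : orderOf (f a) = 1 := Nat.eq_one_of_dvd_coprimes
      (Nat.coprime_two_right.mpr hA) h1 h2
    exact congrArg Multiplicative.toAdd (orderOf_eq_one_iff.mp h3)
  refine (Q.eq_zero x).mpr (hfix x fun a ha => ?_)
  have := hc ⟨a, ha⟩
  rwa [hc0, ExData.zp_zero, mul_one] at this

/-- The sum of all the operators of `A` is zero. -/
theorem sum_act_eq_zero [Fintype A] (hA : Odd (Nat.card A))
    (hfix : ∀ x : E, (∀ a ∈ A, a x = x) → x = 1 ∨ x = z) (v : Q.V) :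
    ∑ a : A, Q.act (a : MulAut E) v = 0 := by
  refine Q.eq_zero_of_act_fixed A hA hfix fun a ha => ?_
  rw [map_sum]
  exact Fintype.sum_equiv (Equiv.mulLeft ⟨a, ha⟩) _ _ fun b => by
    show Q.act a (Q.act (b : MulAut E) v) = _
    rw [Equiv.coe_mulLeft, Subgroup.coe_mul, _root_.map_mul]
    rfl

/-- Lifts of linear maps commuting with `A` are unique. -/
theorem lift_unique (hA : Odd (Nat.card A)) (hfix : ∀ x : E, (∀ a ∈ A, a x = x) → x = 1 ∨ x = z)
    {φ ψ : MulAut E} (hφ : ∀ a ∈ A, φ * a = a * φ) (hψ : ∀ a ∈ A, ψ * a = a * ψ)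
    (h : Q.act φ = Q.act ψ) : φ = ψ := by
  classical
  haveI := Fintype.ofFinite A
  have hd : ∀ x, ψ x = φ x ∨ ψ x = φ x * z := fun x =>
    Q.π_eq (by rw [← Q.act_π, ← Q.act_π, h])
  let d : E → ZMod 2 := fun x => if ψ x = φ x then 0 else 1
  have hdz : ∀ x, ψ x = φ x * ExData.zp z (d x) := fun x => by
    simp only [d]
    split_ifs with h1
    · rw [ExData.zp_zero, mul_one, h1]
    · rw [ExData.zp_one]; exact (hd x).resolve_left h1
  have hadd : ∀ x y, d (x * y) = d x + d y := fun x y => hE.zp_inj (by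
    have e := hdz (x * y)
    rw [_root_.map_mul ψ, _root_.map_mul φ, hdz x, hdz y,
      show φ x * ExData.zp z (d x) * (φ y * ExData.zp z (d y)) =
        φ x * φ y * (ExData.zp z (d x) * ExData.zp z (d y)) by
        simp only [mul_assoc]; rw [← mul_assoc (ExData.zp z (d x)), hE.zp_comm, mul_assoc],
      ← hE.zp_add] at e
    exact (mul_left_cancel e).symm)
  have hinv : ∀ a ∈ A, ∀ x, d (a x) = d x := fun a ha x => hE.zp_inj (by
    have e := hdz (a x)
    rw [← MulAut.mul_apply, hψ a ha, MulAut.mul_apply, hdz x, _root_.map_mul a, hE.auto_zp,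
      ← MulAut.mul_apply, ← hφ a ha, MulAut.mul_apply] at e
    exact (mul_left_cancel e).symm)
  have hz0 : d z = 0 := by simp [d, hE.auto_fix ψ, hE.auto_fix φ]
  refine MulEquiv.ext fun x => ?_
  suffices d x = 0 by
    have e := hdz x
    rw [this, ExData.zp_zero, mul_one] at e
    exact e.symm
  -- descend to the space and average
  have hd0 : ∀ y, Q.π y = 0 → d y = 0 := fun y hy => by
    rcases (Q.eq_zero y).mp hy with rfl | rfl
    · have := hadd 1 1; rw [mul_one] at this; simpa using this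
    · exact hz0
  let δ : Q.V →+ ZMod 2 := AddMonoidHom.mk' (fun v => d (Function.surjInv Q.surj v)) fun v w => by
    rw [← hadd]
    have : Q.π ((Function.surjInv Q.surj v * Function.surjInv Q.surj w)⁻¹ *
        Function.surjInv Q.surj (v + w)) = 0 := by
      rw [Q.map_mul, Q.π_inv, Q.map_mul, Function.surjInv_eq Q.surj, Function.surjInv_eq Q.surj,
        Function.surjInv_eq Q.surj, ZModModule.add_self]
    have e := hadd (Function.surjInv Q.surj v * Function.surjInv Q.surj w)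
      ((Function.surjInv Q.surj v * Function.surjInv Q.surj w)⁻¹ *
        Function.surjInv Q.surj (v + w))
    rwa [mul_inv_cancel_left, hd0 _ this, add_zero] at e
  have hδ : ∀ y, δ (Q.π y) = d y := fun y => by
    have : Q.π (y⁻¹ * Function.surjInv Q.surj (Q.π y)) = 0 := by
      rw [Q.map_mul, Q.π_inv, Function.surjInv_eq Q.surj, ZModModule.add_self]
    have e := hadd y (y⁻¹ * Function.surjInv Q.surj (Q.π y))
    rw [mul_inv_cancel_left, hd0 _ this, add_zero] at e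
    exact e
  have hsum : ∀ v, ∑ a : A, Q.act (a : MulAut E) v = 0 := fun v => Q.sum_act_eq_zero A hA hfix v
  have := congrArg δ (hsum (Q.π x))
  rw [map_sum, map_zero, Finset.sum_congr rfl (g := fun _ => d x) (fun a _ => by
    rw [Q.act_π, hδ, hinv a a.2]), Finset.sum_const, Finset.card_univ, ← Nat.card_eq_fintype_card]
    at this
  obtain ⟨k, hk⟩ := hA
  rw [hk, succ_nsmul, mul_nsmul, two_nsmul, CharTwo.add_self_eq_zero, smul_zero, zero_add] at this
  exact this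

/-- An isometry commuting with `A` lifts to an automorphism commuting with `A`. -/
theorem exists_lift (hA : Odd (Nat.card A)) (g : Q.V ≃ₗ[ZMod 2] Q.V)
    (hq : ∀ v, Q.q (g v) = Q.q v) (hg : ∀ a ∈ A, ∀ v, g (Q.act a v) = Q.act a (g v)) :
    ∃ φ : MulAut E, (∀ a ∈ A, φ * a = a * φ) ∧ Q.act φ = g := by
  classical
  haveI := Fintype.ofFinite A
  have hπ0 : ∀ {y : E}, y = 1 ∨ y = z → Q.π y = 0 := fun h => (Q.eq_zero _).mpr h
  have hπz : Q.π z = 0 := hπ0 (Or.inr rfl)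
  let Γ : Subgroup (E × E) :=
    { carrier := {p | Q.π p.2 = g (Q.π p.1)}
      one_mem' := by simp [Q.π_one]
      mul_mem' := fun {p p'} hp hp' => by
        show Q.π (p.2 * p'.2) = g (Q.π (p.1 * p'.1))
        rw [Q.map_mul, Q.map_mul, map_add, hp, hp']
      inv_mem' := fun {p} hp => by
        show Q.π p.2⁻¹ = g (Q.π p.1⁻¹)
        rw [Q.π_inv, Q.π_inv]; exact hp }
  have hmem : ∀ {x y : E}, (x, y) ∈ Γ ↔ Q.π y = g (Q.π x) := Iff.rfl
  have hw : ((1 : E), z) ∈ Γ := by rw [hmem, Q.π_one, map_zero, hπz]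
  have hzz : (z, z) ∈ Γ := by rw [hmem, hπz, map_zero]
  let D : Subgroup Γ := Subgroup.zpowers ⟨(z, z), hzz⟩
  haveI : D.Normal := ⟨fun n hn k => by
    obtain ⟨i, rfl⟩ := hn
    have hc : (⟨(z, z), hzz⟩ : Γ) * k = k * ⟨(z, z), hzz⟩ :=
      Subtype.ext (Prod.ext (hE.central _) (hE.central _))
    rw [← (Commute.zpow_left hc i).eq, mul_inv_cancel_right]
    exact ⟨i, rfl⟩⟩
  have hexp : ∀ p : Γ, p * p ∈ D := fun p => by
    have h1 : hE.sqv (p : E × E).2 = hE.sqv (p : E × E).1 := by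
      rw [← Q.q_π, ← Q.q_π, show Q.π (p : E × E).2 = g (Q.π (p : E × E).1) from p.2, hq]
    rcases zmod_two_cases (hE.sqv (p : E × E).1) with h | h
    · convert D.one_mem
      refine Subtype.ext (Prod.ext ?_ ?_)
      · show (p : E × E).1 * (p : E × E).1 = 1; rw [hE.sqv_spec, h, ExData.zp_zero]
      · show (p : E × E).2 * (p : E × E).2 = 1; rw [hE.sqv_spec, h1, h, ExData.zp_zero]
    · convert Subgroup.mem_zpowers (⟨(z, z), hzz⟩ : Γ) using 1
      refine Subtype.ext (Prod.ext ?_ ?_)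
      · show (p : E × E).1 * (p : E × E).1 = z; rw [hE.sqv_spec, h, ExData.zp_one]
      · show (p : E × E).2 * (p : E × E).2 = z; rw [hE.sqv_spec, h1, h, ExData.zp_one]
  have hinv : ∀ w : Γ ⧸ D, w⁻¹ = w := fun w => by
    obtain ⟨p, rfl⟩ := QuotientGroup.mk_surjective w
    exact inv_eq_of_mul_eq_one_right (by rw [← QuotientGroup.mk_mul, QuotientGroup.eq_one_iff]; exact hexp p)
  letI : CommGroup (Γ ⧸ D) := { (inferInstance : Group (Γ ⧸ D)) with
    mul_comm := fun a b => by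
      calc a * b = (a * b)⁻¹ := (hinv _).symm
        _ = b * a := by rw [mul_inv_rev, hinv, hinv] }
  haveI : HasEnoughRootsOfUnity ℂ (Monoid.exponent (Γ ⧸ D)) := by
    haveI : NeZero (Monoid.exponent (Γ ⧸ D)) := ⟨Monoid.exponent_ne_zero_of_finite⟩
    infer_instance
  have hw1 : (QuotientGroup.mk ⟨(1, z), hw⟩ : Γ ⧸ D) ≠ 1 := fun h => by
    obtain ⟨i, hi⟩ := (QuotientGroup.eq_one_iff _).mp h
    have h1 : (z ^ i : E) = 1 := congrArg (fun p : Γ => (p : E × E).1) hi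
    have h2 : (z ^ i : E) = z := congrArg (fun p : Γ => (p : E × E).2) hi
    exact hE.ne_one (h2.symm.trans h1)
  obtain ⟨χ₀, hχ₀⟩ := CommGroup.exists_apply_ne_one_of_hasEnoughRootsOfUnity (Γ ⧸ D) ℂ hw1
  let χ₁ : Γ →* ℂˣ := χ₀.comp (QuotientGroup.mk' D)
  have hsq : ∀ p : Γ, χ₁ p = 1 ∨ χ₁ p = -1 := fun p => by
    have h3 : ((χ₁ p : ℂˣ) : ℂ) * ((χ₁ p : ℂˣ) : ℂ) = 1 := congrArg Units.val
      (show χ₁ p * χ₁ p = 1 by
        rw [← _root_.map_mul, show χ₁ (p * p) = χ₀ ((p * p : Γ) : Γ ⧸ D) from rfl,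
          (QuotientGroup.eq_one_iff _).mpr (hexp p), _root_.map_one])
    rcases mul_self_eq_one_iff.mp h3 with h | h
    · exact Or.inl (Units.ext h)
    · exact Or.inr (Units.ext h)
  have hwneg : χ₁ ⟨(1, z), hw⟩ = -1 := (hsq _).resolve_left hχ₀
  have htm : ∀ (a : A) (p : Γ), ((a : MulAut E) (p : E × E).1, (a : MulAut E) (p : E × E).2) ∈ Γ :=
    fun a p => by
      rw [hmem, ← Q.act_π, ← Q.act_π, hg a a.2, show Q.π (p : E × E).2 = g (Q.π (p : E × E).1) from p.2]
  let t : A → Γ → Γ := fun a p =>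
    ⟨((a : MulAut E) (p : E × E).1, (a : MulAut E) (p : E × E).2), htm a p⟩
  have ht : ∀ a p p', t a (p * p') = t a p * t a p' := fun a p p' =>
    Subtype.ext (Prod.ext (_root_.map_mul (a : MulAut E) _ _) (_root_.map_mul (a : MulAut E) _ _))
  let χ : Γ →* ℂˣ := MonoidHom.mk' (fun p => ∏ a : A, χ₁ (t a p)) fun p p' => by
    rw [← Finset.prod_mul_distrib]
    exact Finset.prod_congr rfl fun a _ => by rw [ht, _root_.map_mul]
  have hχw : χ ⟨(1, z), hw⟩ = -1 := by
    show ∏ a : A, χ₁ (t a ⟨(1, z), hw⟩) = -1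
    rw [Finset.prod_congr rfl (g := fun _ => (-1 : ℂˣ)) (fun a _ => by
      rw [← hwneg]; exact congrArg χ₁ (Subtype.ext (Prod.ext (_root_.map_one (a : MulAut E))
        (hE.auto_fix (a : MulAut E))))),
      Finset.prod_const, Finset.card_univ, ← Nat.card_eq_fintype_card, hA.neg_one_pow]
  have hχsq : ∀ p, χ p = 1 ∨ χ p = -1 := fun p => by
    refine Finset.prod_induction _ (fun u : ℂˣ => u = 1 ∨ u = -1) ?_ (Or.inl rfl) fun a _ => hsq _
    rintro a b (rfl | rfl) (rfl | rfl) <;> simp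
  have hne : (-1 : ℂˣ) ≠ 1 := fun h => by
    have := congrArg Units.val h
    norm_num at this
  have huniq : ∀ {x y y' : E} (h : (x, y) ∈ Γ) (h' : (x, y') ∈ Γ),
      χ ⟨_, h⟩ = 1 → χ ⟨_, h'⟩ = 1 → y = y' := by
    intro x y y' h h' e e'
    rcases Q.π_eq (h.trans h'.symm) with r | r
    · exact r
    · exfalso
      have : (⟨(x, y), h⟩ : Γ) = ⟨(x, y'), h'⟩ * ⟨(1, z), hw⟩ :=
        Subtype.ext (Prod.ext (mul_one x).symm r)
      rw [this, _root_.map_mul, e', hχw, one_mul] at e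
      exact hne e
  have hex : ∀ x : E, ∃ y, ∃ h : (x, y) ∈ Γ, χ ⟨_, h⟩ = 1 := fun x => by
    obtain ⟨y, hy⟩ := Q.surj (g (Q.π x))
    rcases hχsq ⟨(x, y), hy⟩ with h | h
    · exact ⟨y, hy, h⟩
    · have hy' : (x, y * z) ∈ Γ := by rw [hmem, Q.map_mul, hπz, add_zero, hy]
      refine ⟨y * z, hy', ?_⟩
      have : (⟨(x, y * z), hy'⟩ : Γ) = ⟨(x, y), hy⟩ * ⟨(1, z), hw⟩ :=
        Subtype.ext (Prod.ext (mul_one x).symm rfl)
      rw [this, _root_.map_mul, h, hχw, neg_mul_neg, one_mul]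
  choose φ hφm hφ using hex
  let F : E →* E := MonoidHom.mk' φ fun x x' => huniq (hφm _) (Γ.mul_mem (hφm x) (hφm x'))
    (hφ _) (by
      refine (congrArg χ (show (⟨(x * x', φ x * φ x'), _⟩ : Γ) = ⟨_, hφm x⟩ * ⟨_, hφm x'⟩ from
        Subtype.ext rfl)).trans ?_
      rw [_root_.map_mul, hφ, hφ, one_mul])
  have hFinj : Function.Injective F := (injective_iff_map_eq_one F).mpr fun x hx => by
    have hx0 : g (Q.π x) = 0 := by
      have h1 : Q.π (F x) = g (Q.π x) := hφm x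
      rw [← h1, hx, Q.π_one]
    rcases (Q.eq_zero x).mp ((map_eq_zero_iff g g.injective).mp hx0) with r | r
    · exact r
    · exfalso
      have hz1 : (z, (1 : E)) ∈ Γ := by rw [hmem, Q.π_one, hπz, map_zero]
      have h1 : χ ⟨(z, 1), hz1⟩ = -1 := by
        have e : (⟨(z, 1), hz1⟩ : Γ) = ⟨(z, z), hzz⟩ * ⟨(1, z), hw⟩ :=
          Subtype.ext (Prod.ext (mul_one z).symm hE.sq_z.symm)
        have e2 : χ ⟨(z, z), hzz⟩ = 1 := Finset.prod_eq_one fun a _ => by
          have : t a ⟨(z, z), hzz⟩ = ⟨(z, z), hzz⟩ :=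
            Subtype.ext (Prod.ext (hE.auto_fix (a : MulAut E)) (hE.auto_fix (a : MulAut E)))
          rw [this]
          exact (congrArg χ₀ ((QuotientGroup.eq_one_iff _).mpr (Subgroup.mem_zpowers _))).trans
            (_root_.map_one χ₀)
        rw [e, _root_.map_mul, e2, hχw, one_mul]
      have h2 : χ ⟨(x, φ x), hφm x⟩ = 1 := hφ x
      have h3 : (⟨(x, φ x), hφm x⟩ : Γ) = ⟨(z, 1), hz1⟩ := Subtype.ext (Prod.ext r hx)
      rw [h3, h1] at h2
      exact hne h2
  let Φ : MulAut E := MulEquiv.ofBijective F ⟨hFinj, Finite.injective_iff_surjective.mp hFinj⟩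
  refine ⟨Φ, fun a ha => MulEquiv.ext fun x => ?_, LinearEquiv.ext fun v => ?_⟩
  · show φ (a x) = a (φ x)
    have hm : (a x, a (φ x)) ∈ Γ := htm ⟨a, ha⟩ ⟨_, hφm x⟩
    refine huniq (hφm _) hm (hφ _) ?_
    have e : χ ⟨(a x, a (φ x)), hm⟩ = χ ⟨_, hφm x⟩ :=
      Fintype.prod_equiv (Equiv.mulRight ⟨a, ha⟩) _ _ fun b => congrArg χ₁ (Subtype.ext rfl)
    rw [e, hφ]
  · obtain ⟨x, rfl⟩ := Q.surj v
    rw [Q.act_π]
    exact hφm x

end Quad

end Cfsg.Lib.Char.StableLine
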