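import Cfsg.Agent.Lib.Char.StableLine.Idem
import Mathlib.LinearAlgebra.Eigenspace.Triangularizable
import Mathlib.GroupTheory.PGroup

/-!
# Steps of the induction for a stable line
-/

set_option autoImplicit false
set_option linter.unusedSectionVars false
set_option linter.style.haveILetI false
set_option linter.unusedVariables false

namespace Cfsg.Lib.Char.StableLine

open scoped ComplexConjugate
open MonoidAlgebra

universe u

local notation "ℂ[" G "]" => MonoidAlgebra ℂ G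

/-- An odd group with trivial fixed space and a two-group normalizing it. -/
structure Acts {E : Type u} [Group E] (z : E) (A S : Subgroup (MulAut E)) : Prop where
  odd : Odd (Nat.card A)
  two : IsPGroup 2 S
  norm : ∀ s ∈ S, ∀ a ∈ A, s * a * s⁻¹ ∈ A
  fix : ∀ x : E, (∀ a ∈ A, a x = x) → x = 1 ∨ x = z

/-- There is a rank one idempotent fixed by `S`. -/
def Good {E : Type u} [Group E] (z : E) (S : Subgroup (MulAut E)) : Prop :=
  ∃ P : ℂ[E], RankOne z P ∧ ∀ s ∈ S, domCongr ℂ ℂ s P = P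

/-- The claim for all groups smaller than `n`. -/
def Below (n : ℕ) : Prop :=
  ∀ (F : Type u) [Group F] [Finite F] (w : F), Nat.card F < n → ExData w →
    ∀ A S : Subgroup (MulAut F), Acts w A S → Good w S

theorem odd_of_dvd {a b : ℕ} (hb : Odd b) (h : a ∣ b) : Odd a :=
  Odd.of_dvd_nat hb h

section Preimage

variable {E : Type u} [Group E] [Finite E]

theorem map_mem_of_mem_iff {U : Subgroup E} (f : MulAut E) (h : ∀ x ∈ U, f x ∈ U) {x : E} :
    f x ∈ U ↔ x ∈ U := by
  refine ⟨fun hx => ?_, h x⟩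
  let σ : U → U := fun u => ⟨f (u : E), h (u : E) u.2⟩
  obtain ⟨v, hv⟩ := Finite.surjective_of_injective (f := σ)
    (fun a b e => Subtype.ext (f.injective (congrArg Subtype.val e))) ⟨f x, hx⟩
  rw [← f.injective (congrArg Subtype.val hv)]
  exact v.2

/-- The automorphisms preserving a subgroup. -/
def stab (U : Subgroup E) : Subgroup (MulAut E) where
  carrier := {f | ∀ x ∈ U, f x ∈ U}
  one_mem' := fun x hx => hx
  mul_mem' := fun {f g} hf hg x hx => hf _ (hg x hx)
  inv_mem' := fun {f} hf x hx => (map_mem_of_mem_iff f hf).mp (by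
    rw [MulAut.apply_inv_self]; exact hx)

theorem mem_stab {U : Subgroup E} {f : MulAut E} : f ∈ stab U ↔ ∀ x ∈ U, f x ∈ U := Iff.rfl

/-- Restriction to a subgroup. -/
noncomputable def restrict (U : Subgroup E) : stab U →* MulAut U :=
  have inj : ∀ f : stab U, Function.Injective (fun u : U => (⟨(f : MulAut E) (u : E), f.2 (u : E) u.2⟩ : U)) :=
    fun f a b h => Subtype.ext ((f : MulAut E).injective (congrArg Subtype.val h))
  { toFun := fun f => MulEquiv.ofBijective
      (MonoidHom.mk' (fun u : U => (⟨(f : MulAut E) (u : E), f.2 (u : E) u.2⟩ : U)) fun a b =>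
        Subtype.ext (map_mul (f : MulAut E) (a : E) (b : E)))
      (Finite.injective_iff_bijective.mp (inj f))
    map_one' := MulEquiv.ext fun u => rfl
    map_mul' := fun f g => MulEquiv.ext fun u => rfl }

theorem restrict_apply (U : Subgroup E) (f : stab U) (u : U) :
    ((restrict U f u : U) : E) = (f : MulAut E) (u : E) := rfl

theorem domCongr_map {U : Subgroup E} (f : stab U) (x : ℂ[U]) :
    domCongr ℂ ℂ (f : MulAut E) (mapDomainAlgHom ℂ ℂ U.subtype x) =
      mapDomainAlgHom ℂ ℂ U.subtype (domCongr ℂ ℂ (restrict U f) x) := by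
  induction x using MonoidAlgebra.induction_linear with
  | zero => simp
  | add a b ha hb => simp only [map_add, ha, hb]
  | single g r => simp [restrict_apply]

theorem commute_map {U : Subgroup E} {y : ℂ[E]} (h : ∀ u ∈ U, of ℂ E u * y = y * of ℂ E u)
    (x : ℂ[U]) : mapDomainAlgHom ℂ ℂ U.subtype x * y = y * mapDomainAlgHom ℂ ℂ U.subtype x := by
  induction x using MonoidAlgebra.induction_linear with
  | zero => simp
  | add a b ha hb => simp only [map_add, add_mul, mul_add, ha, hb]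
  | single g r =>
    have e : mapDomainAlgHom ℂ ℂ U.subtype (single g r) = r • of ℂ E (g : E) := by simp
    rw [e, Algebra.smul_mul_assoc, Algebra.mul_smul_comm, h g g.2]

theorem coeff_map_of_notMem {U : Subgroup E} (x : ℂ[U]) {g : E} (hg : g ∉ U) :
    (mapDomainAlgHom ℂ ℂ U.subtype x).coeff g = 0 := by
  induction x using MonoidAlgebra.induction_linear with
  | zero => simp
  | add a b ha hb => rw [map_add, coeff_add, Finsupp.add_apply, ha, hb, add_zero]
  | single u r =>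
    have : (u : E) ≠ g := fun h => hg (h ▸ u.2)
    simp [this]

end Preimage

section

variable {E : Type u} [Group E] [Finite E] {z : E} (hE : ExData z)

/-- Coefficient of a product with disjoint supports. -/
theorem coeff_mul_of_support [Fintype E] {P Q : ℂ[E]} (hP : RankOne z P) (hQ : RankOne z Q)
    (hE : ExData z)
    (h : ∀ g, P.coeff g ≠ 0 → Q.coeff g⁻¹ ≠ 0 → g = 1 ∨ g = z) :
    (P * Q).coeff 1 = 2 * (P.coeff 1 * Q.coeff 1) := by
  classical
  have hz : ∀ R : ℂ[E], RankOne z R → R.coeff z = -R.coeff 1 := fun R hR => by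
    have := congrArg (fun x : ℂ[E] => x.coeff z) hR.minus
    rw [MonoidAlgebra.of_apply] at this
    simp only [coeff_neg, Finsupp.neg_apply] at this
    rw [coeff_single_mul_eq_mul_coeff 1 (fun m _ => ⟨fun e => mul_left_cancel (e.trans (mul_one z).symm),
      fun e => by rw [e, mul_one]⟩), one_mul] at this
    rw [this, neg_neg]
  rw [coeff_mul_one, Fintype.sum_eq_add 1 z hE.ne_one.symm]
  · rw [inv_one, hE.inv_z, hz P hP, hz Q hQ]; ring
  · intro g hg
    by_contra hne
    rcases h g (left_ne_zero_of_mul hne) (right_ne_zero_of_mul hne) with r | r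
    · exact hg.1 r
    · exact hg.2 r

variable {A S : Subgroup (MulAut E)} (hAS : Acts z A S)

include hE in
/-- Reduction modulo an invariant singular subgroup. -/
theorem good_of_singular (Q : Quad hE) (hAS : Acts z A S) (hb : Below.{u} (Nat.card E))
    (U : Subgroup E) (hz : z ∈ U) (hab : ∀ x ∈ U, ∀ y ∈ U, x * y = y * x)
    (hel : ∀ x ∈ U, x * x = 1) (hAU : ∀ a ∈ A, ∀ x ∈ U, a x ∈ U)
    (hSU : ∀ s ∈ S, ∀ x ∈ U, s x ∈ U) (hne : ∃ x ∈ U, x ≠ 1 ∧ x ≠ z) : Good z S := by
  classical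
  haveI := Fintype.ofFinite U
  haveI := Fintype.ofFinite E
  obtain ⟨χ, hχ, hχA⟩ := exists_inv_char hE A hAS.odd hz hab hel hAU
  have hχS : ∀ s ∈ S, Fixes χ s := fun s hs => inv_char_fixed hE A hAS.odd hAS.fix hz hab hel hAU
    hχ hχA s (hAS.norm s hs) (hSU s hs)
  let C : Subgroup E := Subgroup.centralizer (U : Set E)
  have hC : ∀ {c : E}, c ∈ C ↔ ∀ u ∈ U, u * c = c * u := Subgroup.mem_centralizer_iff
  have hUC : U ≤ C := fun x hx => hC.mpr fun u hu => hab u hu x hx
  have hzC : z ∈ C := hUC hz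
  -- automorphisms fixing the character
  let H : Subgroup (MulAut E) :=
    { carrier := {f | f ∈ stab U ∧ Fixes χ f}
      one_mem' := ⟨(stab U).one_mem, fun u => ⟨u.2, rfl⟩⟩
      mul_mem' := fun {f g} hf hg => ⟨(stab U).mul_mem hf.1 hg.1, fun u => by
        obtain ⟨h1, e1⟩ := hg.2 u
        obtain ⟨h2, e2⟩ := hf.2 ⟨g (u : E), h1⟩
        exact ⟨h2, e2.trans e1⟩⟩
      inv_mem' := fun {f} hf => ⟨(stab U).inv_mem hf.1, fun u => by
        have hm : (f⁻¹ : MulAut E) (u : E) ∈ U := (stab U).inv_mem hf.1 (u : E) u.2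
        obtain ⟨h1, e1⟩ := hf.2 ⟨_, hm⟩
        refine ⟨hm, ?_⟩
        rw [← e1]
        exact congrArg χ (Subtype.ext (MulAut.apply_inv_self E f (u : E)))⟩ }
  have hAH : A ≤ H := fun a ha => ⟨hAU a ha, hχA a ha⟩
  have hSH : S ≤ H := fun s hs => ⟨hSU s hs, hχS s hs⟩
  have hHC : ∀ f ∈ H, f ∈ stab C := fun f hf c hc => hC.mpr fun u hu => by
    obtain ⟨v, rfl⟩ : ∃ v, f v = u := f.surjective u
    rw [← map_mul, ← map_mul, hC.mp hc v ((map_mem_of_mem_iff f hf.1).mp hu)]
  -- the kernel of the character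
  let L : Subgroup C :=
    { carrier := {c | ∃ h : (c : E) ∈ U, χ ⟨c, h⟩ = 1}
      one_mem' := ⟨U.one_mem, map_one χ⟩
      mul_mem' := fun {a b} ⟨ha, ea⟩ ⟨hb, eb⟩ => ⟨U.mul_mem ha hb, by
        rw [show (⟨((a * b : C) : E), U.mul_mem ha hb⟩ : U) = ⟨a, ha⟩ * ⟨b, hb⟩ from rfl,
          map_mul, ea, eb, one_mul]⟩
      inv_mem' := fun {a} ⟨ha, ea⟩ => ⟨U.inv_mem ha, by
        rw [show (⟨((a⁻¹ : C) : E), U.inv_mem ha⟩ : U) = ⟨a, ha⟩⁻¹ from rfl, map_inv, ea, inv_one]⟩ }
  haveI : L.Normal := ⟨fun l hl c => by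
    have : c * l * c⁻¹ = l := by
      rw [show c * l = l * c from Subtype.ext (hC.mp c.2 l hl.1).symm, mul_inv_cancel_right]
    rwa [this]⟩
  let w : C ⧸ L := QuotientGroup.mk ⟨z, hzC⟩
  have hneg : (-1 : ℂˣ) ≠ 1 := fun h => by
    have := congrArg Units.val h
    norm_num at this
  have hzL : (⟨z, hzC⟩ : C) ∉ L := fun ⟨_, e⟩ => hneg (hχ.symm.trans e)
  have hUsplit : ∀ c : C, (c : E) ∈ U → c ∈ L ∨ (⟨z, hzC⟩ * c : C) ∈ L := by
    intro c hc
    have h2 : χ ⟨c, hc⟩ * χ ⟨c, hc⟩ = 1 := by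
      rw [← map_mul, show (⟨(c : E), hc⟩ : U) * ⟨(c : E), hc⟩ = 1 from Subtype.ext (hel _ hc), map_one]
    rcases mul_self_eq_one_iff.mp (congrArg Units.val h2) with h | h
    · exact Or.inl ⟨hc, Units.ext h⟩
    · refine Or.inr ⟨U.mul_mem hz hc, ?_⟩
      rw [show (⟨((⟨z, hzC⟩ * c : C) : E), U.mul_mem hz hc⟩ : U) = ⟨z, hz⟩ * ⟨c, hc⟩ from rfl,
        map_mul, hχ, show χ ⟨(c : E), hc⟩ = -1 from Units.ext h, neg_mul_neg, one_mul]
  have hmk : ∀ c : C, (c : E) ∈ U → (QuotientGroup.mk c : C ⧸ L) = 1 ∨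
      (QuotientGroup.mk c : C ⧸ L) = w := fun c hc => by
    rcases hUsplit c hc with h | h
    · exact Or.inl ((QuotientGroup.eq_one_iff c).mpr h)
    · refine Or.inr (QuotientGroup.eq.mpr ?_)
      have : c⁻¹ = c := inv_eq_of_mul_eq_one_right (Subtype.ext (hel _ hc))
      rw [this, show c * ⟨z, hzC⟩ = ⟨z, hzC⟩ * c from Subtype.ext (hE.central _).symm]
      exact h
  have hF : ExData w :=
    { ne_one := fun h => hzL ((QuotientGroup.eq_one_iff _).mp h)
      sq_z := by
        rw [← QuotientGroup.mk_mul, show (⟨z, hzC⟩ * ⟨z, hzC⟩ : C) = 1 from Subtype.ext hE.sq_z,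
          QuotientGroup.mk_one]
      central := fun x => by
        obtain ⟨c, rfl⟩ := QuotientGroup.mk_surjective x
        exact congrArg QuotientGroup.mk (Subtype.ext (hE.central c) : (⟨z, hzC⟩ : C) * c = c * ⟨z, hzC⟩)
      sq := fun x => by
        obtain ⟨c, rfl⟩ := QuotientGroup.mk_surjective x
        rcases hE.sq c with h | h
        · exact Or.inl (by rw [← QuotientGroup.mk_mul, show c * c = 1 from Subtype.ext h,
            QuotientGroup.mk_one])
        · exact Or.inr (by rw [← QuotientGroup.mk_mul, show c * c = ⟨z, hzC⟩ from Subtype.ext h])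
      comm := fun x y => by
        obtain ⟨c, rfl⟩ := QuotientGroup.mk_surjective x
        obtain ⟨d, rfl⟩ := QuotientGroup.mk_surjective y
        rcases hE.comm c d with h | h
        · exact Or.inl (by rw [← QuotientGroup.mk_mul, ← QuotientGroup.mk_mul,
            show c * d = d * c from Subtype.ext h])
        · exact Or.inr (by rw [← QuotientGroup.mk_mul, ← QuotientGroup.mk_mul, ← QuotientGroup.mk_mul,
            show c * d = d * c * ⟨z, hzC⟩ from Subtype.ext h])
      centre := fun x hx => by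
        obtain ⟨c, rfl⟩ := QuotientGroup.mk_surjective x
        refine hmk c (Q.mem_of_commutes hz fun y hy => ?_)
        have hyC : y ∈ C := hC.mpr hy
        rcases hE.comm y c with h | h
        · exact h
        · exfalso
          have h1 := hx (QuotientGroup.mk ⟨y, hyC⟩)
          rw [← QuotientGroup.mk_mul, ← QuotientGroup.mk_mul,
            show (⟨y, hyC⟩ : C) * c = c * ⟨y, hyC⟩ * ⟨z, hzC⟩ from Subtype.ext h,
            QuotientGroup.eq, inv_mul_cancel_left] at h1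
          exact hzL h1 }
  -- the induced automorphisms
  have hLfix : ∀ f : H, L.map (restrict C ⟨f, hHC f f.2⟩ : C ≃* C).toMonoidHom = L := by
    intro f
    refine Subgroup.eq_of_le_of_card_ge ?_ ?_
    · rintro _ ⟨c, ⟨hc, ec⟩, rfl⟩
      obtain ⟨h1, e1⟩ := f.2.2 ⟨c, hc⟩
      exact ⟨h1, e1.trans ec⟩
    · exact le_of_eq (Subgroup.card_map_of_injective
        (MulEquiv.injective (restrict C ⟨f, hHC f f.2⟩ : C ≃* C))).symm
  let ρ : H →* MulAut (C ⧸ L) := MonoidHom.mk'
    (fun f => QuotientGroup.congr L L (restrict C ⟨f, hHC f f.2⟩) (hLfix f)) fun f g =>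
    MulEquiv.ext fun x => by
      obtain ⟨c, rfl⟩ := QuotientGroup.mk_surjective x
      rfl
  have hρ : ∀ (f : H) (c : C), ρ f (QuotientGroup.mk c) =
      QuotientGroup.mk (restrict C ⟨f, hHC f f.2⟩ c) := fun f c => rfl
  have hAS' : Acts w ((A.subgroupOf H).map ρ) ((S.subgroupOf H).map ρ) :=
    { odd := odd_of_dvd hAS.odd (by
        have := Subgroup.card_map_dvd (A.subgroupOf H) ρ
        rwa [Nat.card_congr (Subgroup.subgroupOfEquivOfLe hAH).toEquiv] at this)
      two := (hAS.two.of_equiv (Subgroup.subgroupOfEquivOfLe hSH).symm).map ρ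
      norm := by
        rintro _ ⟨s, hs, rfl⟩ _ ⟨a, ha, rfl⟩
        refine ⟨s * a * s⁻¹, ?_, by simp⟩
        exact hAS.norm (s : MulAut E) hs (a : MulAut E) ha
      fix := fun x hx => by
        obtain ⟨c, rfl⟩ := QuotientGroup.mk_surjective x
        refine hmk c ((Q.π_mem_img hz).mp ?_)
        haveI := Fintype.ofFinite A
        have hmem : ∀ a : A, Q.act (a : MulAut E) (Q.π c) + Q.π c ∈ Q.img U := fun a => by
          have h1 := hx (ρ ⟨a, hAH a.2⟩) ⟨⟨a, hAH a.2⟩, a.2, rfl⟩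
          rw [hρ, QuotientGroup.eq] at h1
          have h2 : ((a : MulAut E) (c : E))⁻¹ * (c : E) ∈ U := h1.1
          refine Q.mem_img.mpr ⟨_, h2, ?_⟩
          rw [Q.map_mul, Q.π_inv, Q.act_π]
        have h3 := (Q.img U).sum_mem fun a (_ : a ∈ Finset.univ) => hmem a
        rw [Finset.sum_add_distrib, Q.sum_act_eq_zero A hAS.odd hAS.fix, zero_add, Finset.sum_const,
          Finset.card_univ, ← Nat.card_eq_fintype_card] at h3
        obtain ⟨k, hk⟩ := hAS.odd
        rwa [hk, succ_nsmul, mul_nsmul, two_nsmul, ZModModule.add_self, smul_zero, zero_add] at h3 }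
  have hlt : Nat.card (C ⧸ L) < Nat.card E := by
    have h1 : L ≠ ⊥ := by
      intro hL
      obtain ⟨x, hx, h1, h2⟩ := hne
      rcases hUsplit ⟨x, hUC hx⟩ hx with h | h
      · rw [hL, Subgroup.mem_bot] at h
        exact h1 (congrArg Subtype.val h)
      · rw [hL, Subgroup.mem_bot] at h
        have h' : z * x = 1 := congrArg Subtype.val h
        exact h2 (by rw [eq_inv_of_mul_eq_one_right h', hE.inv_z])
    have h2 := Subgroup.card_eq_card_quotient_mul_card_subgroup L
    have h3 := Subgroup.one_lt_card_iff_ne_bot L |>.mpr h1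
    have h4 : Nat.card C ≤ Nat.card E := Subgroup.card_le_card_group C
    have h5 : 0 < Nat.card (C ⧸ L) := Nat.card_pos
    calc Nat.card (C ⧸ L) < Nat.card (C ⧸ L) * Nat.card L := lt_mul_of_one_lt_right h5 h3
      _ = Nat.card C := h2.symm
      _ ≤ _ := h4
  obtain ⟨P', hP', hfix'⟩ := hb (C ⧸ L) w hlt hF _ _ hAS'
  -- lifting
  haveI := Fintype.ofFinite (C ⧸ L)
  let ι : ℂ[C] →ₐ[ℂ] ℂ[E] := mapDomainAlgHom ℂ ℂ C.subtype
  let πh : ℂ[C] →ₐ[ℂ] ℂ[C ⧸ L] := mapDomainAlgHom ℂ ℂ (QuotientGroup.mk' L)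
  have hι : ∀ (c : C) (r : ℂ), ι (single c r) = r • of ℂ E (c : E) := fun c r => by simp [ι]
  have hπh : ∀ (c : C) (r : ℂ), πh (single c r) = single (QuotientGroup.mk c) r := fun c r => by
    simp [πh]
  have hcomm : ∀ y : ℂ[C], ι y * eChar χ = eChar χ * ι y := by
    intro y
    refine commute_map (fun c hc => ?_) y
    rw [eChar, Algebra.mul_smul_comm, Algebra.smul_mul_assoc, Finset.mul_sum, Finset.sum_mul]
    congr 1
    refine Finset.sum_congr rfl fun u _ => ?_
    rw [Algebra.mul_smul_comm, Algebra.smul_mul_assoc, ← map_mul (of ℂ E), ← map_mul (of ℂ E),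
      hC.mp hc u u.2]
  have hkey : ∀ c : C, of ℂ E (c : E) * eChar χ =
      of ℂ E (((QuotientGroup.mk c : C ⧸ L).out : C) : E) * eChar χ := by
    intro c
    obtain ⟨l, hl⟩ := QuotientGroup.mk_out_eq_mul L c
    obtain ⟨hlU, el⟩ := l.2
    rw [hl, Subgroup.coe_mul, map_mul (of ℂ E), mul_assoc, of_mul_eChar χ ⟨((l : C) : E), hlU⟩, el,
      Units.val_one, one_smul]
  have hwd : ∀ y : ℂ[C], ι y * eChar χ =
      ∑ v : C ⧸ L, (πh y).coeff v • (of ℂ E ((v.out : C) : E) * eChar χ) := by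
    intro y
    induction y using MonoidAlgebra.induction_linear with
    | zero => simp
    | add a b ha hb =>
      simp only [map_add, add_mul, ha, hb, coeff_add, Finsupp.add_apply, add_smul,
        Finset.sum_add_distrib]
    | single c r =>
      rw [hι, hπh, Finset.sum_eq_single (QuotientGroup.mk c : C ⧸ L)]
      · rw [coeff_single, Finsupp.single_eq_same, Algebra.smul_mul_assoc, hkey]
      · intro v _ hv; simp [Ne.symm hv]
      · simp
  have hwd' : ∀ {a b : ℂ[C]}, πh a = πh b → ι a * eChar χ = ι b * eChar χ := fun h => by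
    rw [hwd, hwd, h]
  obtain ⟨y, hy⟩ : ∃ y, πh y = P' := by
    clear hP' hfix'
    induction P' using MonoidAlgebra.induction_linear with
    | zero => exact ⟨0, map_zero _⟩
    | add a b ha hb =>
      obtain ⟨ya, rfl⟩ := ha
      obtain ⟨yb, rfl⟩ := hb
      exact ⟨ya + yb, map_add _ _ _⟩
    | single v r =>
      obtain ⟨c, rfl⟩ := QuotientGroup.mk_surjective v
      exact ⟨single c r, hπh c r⟩
  have hc1 : ∀ a : ℂ[C], (ι a * eChar χ).coeff 1 =
      ((Fintype.card U : ℂ))⁻¹ * ((πh a).coeff 1 - (πh a).coeff w) := by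
    intro a
    induction a using MonoidAlgebra.induction_linear with
    | zero => simp
    | add a b ha hb =>
      simp only [map_add, add_mul, coeff_add, Finsupp.add_apply, ha, hb]; ring
    | single c r =>
      rw [hι, hπh, Algebra.smul_mul_assoc, coeff_smul, Finsupp.smul_apply, smul_eq_mul]
      by_cases hc : (c : E) ∈ U
      · rw [of_mul_eChar χ ⟨c, hc⟩, coeff_smul, Finsupp.smul_apply, coeff_eChar_one, smul_eq_mul]
        rcases hUsplit c hc with ⟨_, e⟩ | hzc
        · rw [e, (QuotientGroup.eq_one_iff (N := L) c).mpr ⟨hc, e⟩]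
          simp [hF.ne_one.symm, mul_comm]
        · have hcw : (QuotientGroup.mk c : C ⧸ L) = w := by
            rcases hmk c hc with h | h
            · exfalso
              have hc' := (QuotientGroup.eq_one_iff c).mp h
              refine hzL ?_
              have := L.mul_mem hzc (L.inv_mem hc')
              rwa [mul_inv_cancel_right] at this
            · exact h
          have e : χ ⟨c, hc⟩ = -1 := by
            obtain ⟨_, e⟩ := hzc
            rw [show (⟨((⟨z, hzC⟩ * c : C) : E), _⟩ : U) = ⟨z, hz⟩ * ⟨c, hc⟩ from rfl, map_mul,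
              hχ] at e
            rw [← neg_neg (χ ⟨c, hc⟩), ← neg_one_mul (χ ⟨c, hc⟩), e]
          rw [hcw, e]
          simp [hF.ne_one, mul_comm]
      · have h0 : (of ℂ E (c : E) * eChar χ).coeff 1 = 0 := by
          rw [eChar, Algebra.mul_smul_comm, coeff_smul, Finsupp.smul_apply, Finset.mul_sum,
            coeff_sum, Finsupp.finsetSum_apply, Finset.sum_eq_zero, smul_zero]
          intro u _
          have : (c : E) * (u : E) ≠ 1 := fun h => hc (by
            rw [eq_inv_of_mul_eq_one_left h]; exact U.inv_mem u.2)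
          simp [this]
        have hm1 : (QuotientGroup.mk c : C ⧸ L) ≠ 1 := fun h =>
          hc ((QuotientGroup.eq_one_iff c).mp h).1
        have hmw : (QuotientGroup.mk c : C ⧸ L) ≠ w := fun h => hc (by
          obtain ⟨h', _⟩ := (QuotientGroup.eq).mp h
          have h'' : (c : E)⁻¹ * z ∈ U := h'
          have := U.mul_mem hz (U.inv_mem h'')
          rwa [mul_inv_rev, inv_inv, mul_inv_cancel_left] at this)
        rw [h0]
        simp [hm1, hmw]
  let P : ℂ[E] := ι y * eChar χ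
  have hzP : of ℂ E z * P = -P := by
    rw [show P = eChar χ * ι y from hcomm y, ← mul_assoc, z_mul_eChar χ hE hz hχ, neg_mul]
  refine ⟨P, ⟨?_, ?_, hzP, ?_, corner_of_group fun g => ?_⟩, fun s hs => ?_⟩
  · intro h0
    have h1 := hc1 y
    rw [show ι y * eChar χ = P from rfl, h0, hy] at h1
    have hw : P'.coeff w = -P'.coeff 1 := by
      have := congrArg (fun x : ℂ[C ⧸ L] => x.coeff w) hP'.minus
      rw [MonoidAlgebra.of_apply] at this
      simp only [coeff_neg, Finsupp.neg_apply] at this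
      rw [coeff_single_mul_eq_mul_coeff 1 (fun m _ => ⟨fun e => mul_left_cancel (e.trans (mul_one w).symm),
        fun e => by rw [e, mul_one]⟩), one_mul] at this
      rw [this, neg_neg]
    rw [hw, sub_neg_eq_add] at h1
    simp [← two_mul, hP'.coeff_one_ne_zero] at h1
  · show adj (ι y * eChar χ) = ι y * eChar χ
    rw [adj_mul, adj_eChar, adj_map, ← hcomm]
    refine hwd' ?_
    rw [← adj_map, hy, hP'.adj_eq]
  · show ι y * eChar χ * (ι y * eChar χ) = ι y * eChar χ
    rw [mul_assoc, ← mul_assoc (eChar χ), ← hcomm, mul_assoc (ι y), eChar_idem, ← mul_assoc,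
      ← map_mul ι]
    exact hwd' (by rw [map_mul, hy, hP'.idem])
  · show ∃ c : ℂ, ι y * eChar χ * of ℂ E g * (ι y * eChar χ) = c • (ι y * eChar χ)
    by_cases hg : g ∈ C
    · obtain ⟨c, hc⟩ := hP'.corner (of ℂ (C ⧸ L) (QuotientGroup.mk ⟨g, hg⟩))
      refine ⟨c, ?_⟩
      have e1 : ι y * eChar χ * of ℂ E g * (ι y * eChar χ) =
          ι (y * single ⟨g, hg⟩ 1 * y) * eChar χ := by
        rw [map_mul, map_mul, hι, one_smul]
        have h2 : eChar χ * of ℂ E g = of ℂ E g * eChar χ := by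
          have := hcomm (single ⟨g, hg⟩ 1)
          rwa [hι, one_smul, eq_comm] at this
        calc ι y * eChar χ * of ℂ E g * (ι y * eChar χ)
            = ι y * of ℂ E g * (eChar χ * (ι y * eChar χ)) := by
              rw [mul_assoc (ι y) (eChar χ), h2]; simp only [mul_assoc]
          _ = ι y * of ℂ E g * (ι y * eChar χ) := by
              rw [← mul_assoc (eChar χ), ← hcomm, mul_assoc (ι y) (eChar χ) (eChar χ), eChar_idem]
          _ = _ := by simp only [mul_assoc]
      rw [e1, ← Algebra.smul_mul_assoc, ← map_smul]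
      refine hwd' ?_
      rw [map_smul, map_mul, map_mul, hy, hπh]
      exact hc
    · obtain ⟨u, hu, hne'⟩ : ∃ u ∈ U, u * g ≠ g * u := by
        by_contra h
        push Not at h
        exact hg (hC.mpr h)
      refine ⟨0, ?_⟩
      rw [zero_smul, hcomm y]
      nth_rewrite 1 [← hcomm y]
      rw [show ι y * eChar χ * of ℂ E g * (eChar χ * ι y) =
        ι y * (eChar χ * of ℂ E g * eChar χ) * ι y by simp only [mul_assoc],
        eChar_corner_eq_zero χ hE hz hχ ⟨u, hu⟩ hne', mul_zero, zero_mul]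
  · show domCongr ℂ ℂ s (ι y * eChar χ) = ι y * eChar χ
    rw [map_mul, domCongr_eChar χ s (hχS s hs), domCongr_map ⟨s, hHC s (hSH hs)⟩]
    refine hwd' ?_
    have h1 : ∀ a : ℂ[C], πh (domCongr ℂ ℂ (restrict C ⟨s, hHC s (hSH hs)⟩) a) =
        domCongr ℂ ℂ (ρ ⟨s, hSH hs⟩) (πh a) := by
      intro a
      induction a using MonoidAlgebra.induction_linear with
      | zero => simp
      | add a b ha hb => simp only [map_add, ha, hb]
      | single c r => rw [domCongr_single, hπh, hπh, domCongr_single, hρ]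
    rw [h1, hy, hfix' _ ⟨⟨s, hSH hs⟩, hs, rfl⟩]

/-- Restriction to a non-degenerate invariant subgroup. -/
theorem good_restrict (hE : ExData z) (hAS : Acts z A S) (hb : Below.{u} (Nat.card E))
    (U : Subgroup E) (hz : z ∈ U) (hcen : ∀ x ∈ U, (∀ u ∈ U, u * x = x * u) → x = 1 ∨ x = z)
    (hAU : ∀ a ∈ A, ∀ x ∈ U, a x ∈ U) (hne : ∃ x, x ∉ U) :
    ∃ P : ℂ[U], RankOne (⟨z, hz⟩ : U) P ∧ ∀ (f : MulAut E) (hf : f ∈ stab U), f ∈ S →
      domCongr ℂ ℂ (restrict U ⟨f, hf⟩) P = P := by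
  have hU : ExData (⟨z, hz⟩ : U) :=
    { ne_one := fun h => hE.ne_one (congrArg Subtype.val h)
      sq_z := Subtype.ext hE.sq_z
      central := fun x => Subtype.ext (hE.central x)
      sq := fun x => (hE.sq x).imp (fun h => Subtype.ext h) fun h => Subtype.ext h
      comm := fun x y => (hE.comm x y).imp (fun h => Subtype.ext h) fun h => Subtype.ext h
      centre := fun x hx => (hcen x x.2 fun u hu => (congrArg Subtype.val (hx ⟨u, hu⟩)).symm).imp
        (fun h => Subtype.ext h) fun h => Subtype.ext h }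
  have hAle : A ≤ stab U := fun a ha => hAU a ha
  have hlt : Nat.card U < Nat.card E := by
    obtain ⟨x, hx⟩ := hne
    haveI := Fintype.ofFinite E
    haveI := Fintype.ofFinite U
    rw [Nat.card_eq_fintype_card, Nat.card_eq_fintype_card]
    exact Fintype.card_subtype_lt (p := fun y : E => y ∈ U) hx
  have hAS' : Acts (⟨z, hz⟩ : U) ((A.subgroupOf (stab U)).map (restrict U))
      ((S.subgroupOf (stab U)).map (restrict U)) :=
    { odd := odd_of_dvd hAS.odd (by
        have := Subgroup.card_map_dvd (A.subgroupOf (stab U)) (restrict U)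
        rwa [Nat.card_congr (Subgroup.subgroupOfEquivOfLe hAle).toEquiv] at this)
      two := (hAS.two.comap_of_injective (stab U).subtype (Subgroup.subtype_injective _)).map _
      norm := by
        rintro _ ⟨s, hs, rfl⟩ _ ⟨a, ha, rfl⟩
        exact ⟨s * a * s⁻¹, hAS.norm (s : MulAut E) hs (a : MulAut E) ha, by simp⟩
      fix := fun x hx => (hAS.fix x fun a ha => congrArg Subtype.val
          (hx (restrict U ⟨a, hAle ha⟩) ⟨⟨a, hAle ha⟩, ha, rfl⟩)).imp
        (fun h => Subtype.ext h) fun h => Subtype.ext h }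
  obtain ⟨P, hP, hfix⟩ := hb U ⟨z, hz⟩ hlt hU _ _ hAS'
  exact ⟨P, hP, fun f hf hfS => hfix _ ⟨⟨f, hf⟩, hfS, rfl⟩⟩

include hE in
/-- An orthogonal decomposition into two parts permuted by the two-group. -/
theorem good_of_split (Q : Quad hE) (hAS : Acts z A S) (hb : Below.{u} (Nat.card E))
    (U V : Subgroup E) (hz : z ∈ U) (hV : ∀ x, x ∈ V ↔ ∀ u ∈ U, u * x = x * u)
    (hcen : ∀ x ∈ U, (∀ u ∈ U, u * x = x * u) → x = 1 ∨ x = z)
    (hAU : ∀ a ∈ A, ∀ x ∈ U, a x ∈ U) (hne : ∃ x ∈ U, x ≠ 1 ∧ x ≠ z) (hne' : ∃ x, x ∉ U)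
    (hS : ∀ s ∈ S, (∀ x ∈ U, s x ∈ U) ∨ ((∀ x ∈ U, s x ∈ V) ∧ ∀ x ∈ V, s x ∈ U)) :
    Good z S := by
  classical
  haveI := Fintype.ofFinite E
  have hzV : z ∈ V := (hV z).mpr fun u _ => (hE.central u).symm
  have hUV : ∀ x, x ∈ U → x ∈ V → x = 1 ∨ x = z := fun x hx hx' => hcen x hx ((hV x).mp hx')
  have hdec : ∀ x, ∃ u ∈ U, ∃ v ∈ V, x = u * v := fun x => by
    obtain ⟨u, hu, c, hc, h⟩ := Q.exists_mul_of_split hz hcen x
    exact ⟨u, hu, c, (hV c).mpr hc, h⟩
  have hstabV : ∀ f : MulAut E, f ∈ stab U → f ∈ stab V := fun f hf x hx => (hV _).mpr fun u hu => by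
    obtain ⟨w, rfl⟩ : ∃ w, f w = u := f.surjective u
    rw [← map_mul, ← map_mul, (hV x).mp hx w ((map_mem_of_mem_iff f hf).mp hu)]
  obtain ⟨P₁, hP₁, hfix₁⟩ := good_restrict hE hAS hb U hz hcen hAU hne'
  obtain ⟨u₀, hu₀, hu₀1, hu₀z⟩ := hne
  have hcenV : ∀ x ∈ V, (∀ v ∈ V, v * x = x * v) → x = 1 ∨ x = z := fun x hx h => by
    refine hE.centre x fun y => ?_
    obtain ⟨u, hu, v, hv, rfl⟩ := hdec y
    rw [← mul_assoc, ← (hV x).mp hx u hu, mul_assoc, ← h v hv, ← mul_assoc]
  obtain ⟨P₂, hP₂, hfix₂⟩ := good_restrict hE hAS hb V hzV hcenV (fun a ha => hstabV a (hAU a ha))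
    ⟨u₀, fun h => by rcases hUV u₀ hu₀ h with r | r <;> contradiction⟩
  let Q₁ : ℂ[E] := mapDomainAlgHom ℂ ℂ U.subtype P₁
  -- the second factor
  obtain ⟨Q₂, hQ₂, hsupp, hperm⟩ : ∃ Q₂ : ℂ[E], (∃ P : ℂ[V], RankOne (⟨z, hzV⟩ : V) P ∧
      Q₂ = mapDomainAlgHom ℂ ℂ V.subtype P) ∧ (∀ g ∉ V, Q₂.coeff g = 0) ∧
      ∀ s ∈ S, (domCongr ℂ ℂ s Q₁ = Q₁ ∧ domCongr ℂ ℂ s Q₂ = Q₂) ∨
        (domCongr ℂ ℂ s Q₁ = Q₂ ∧ domCongr ℂ ℂ s Q₂ = Q₁) := by
    have hfixQ : ∀ f ∈ S, f ∈ stab U → domCongr ℂ ℂ f Q₁ = Q₁ := fun f hfS hf => by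
      show domCongr ℂ ℂ f (mapDomainAlgHom ℂ ℂ U.subtype P₁) = _
      rw [domCongr_map ⟨f, hf⟩, hfix₁ f hf hfS]
    by_cases hall : ∀ s ∈ S, s ∈ stab U
    · refine ⟨mapDomainAlgHom ℂ ℂ V.subtype P₂, ⟨P₂, hP₂, rfl⟩, fun g hg => coeff_map_of_notMem P₂ hg,
        fun s hs => Or.inl ⟨hfixQ s hs (hall s hs), ?_⟩⟩
      rw [domCongr_map ⟨s, hstabV s (hall s hs)⟩, hfix₂ s _ hs]
    push Not at hall
    obtain ⟨t, htS, htU⟩ := hall
    obtain ⟨htUV, htVU⟩ := (hS t htS).resolve_left htU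
    let e : U ≃* V := MulEquiv.ofBijective
      (MonoidHom.mk' (fun u : U => (⟨t (u : E), htUV (u : E) u.2⟩ : V)) fun a b =>
        Subtype.ext (map_mul t (a : E) (b : E)))
      ⟨fun a b h => Subtype.ext (t.injective (congrArg Subtype.val h)), fun v => by
        have h2 : t * t ∈ stab U := fun x hx => htVU _ (htUV x hx)
        obtain ⟨x, hx⟩ := t.surjective v
        refine ⟨⟨x, (map_mem_of_mem_iff (t * t) h2).mp ?_⟩, Subtype.ext hx⟩
        rw [MulAut.mul_apply, hx]
        exact htVU _ v.2⟩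
    let R : ℂ[V] := domCongr ℂ ℂ e P₁
    have hR' : ∀ a : ℂ[U], domCongr ℂ ℂ t (mapDomainAlgHom ℂ ℂ U.subtype a) =
        mapDomainAlgHom ℂ ℂ V.subtype (domCongr ℂ ℂ e a) := by
      intro a
      induction a using MonoidAlgebra.induction_linear with
      | zero => simp
      | add a b ha hb => simp only [map_add, ha, hb]
      | single g r =>
        rw [mapDomainAlgHom_apply, mapDomain_single, domCongr_single, domCongr_single,
          mapDomainAlgHom_apply, mapDomain_single]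
        rfl
    have hR : domCongr ℂ ℂ t Q₁ = mapDomainAlgHom ℂ ℂ V.subtype R := hR' P₁
    have hRr : RankOne (⟨z, hzV⟩ : V) R :=
      { ne_zero := fun h0 => hP₁.ne_zero ((domCongr ℂ ℂ e).injective (h0.trans (map_zero _).symm))
        adj_eq := by show adj (domCongr ℂ ℂ e P₁) = _; rw [adj_domCongr, hP₁.adj_eq]
        minus := by
          have := congrArg (domCongr ℂ ℂ e) hP₁.minus
          rw [map_mul, map_neg, MonoidAlgebra.of_apply, domCongr_single] at this
          rwa [show e ⟨z, hz⟩ = ⟨z, hzV⟩ from Subtype.ext (hE.auto_fix t)] at this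
        idem := by show domCongr ℂ ℂ e P₁ * domCongr ℂ ℂ e P₁ = _; rw [← map_mul, hP₁.idem]
        corner := fun x => by
          obtain ⟨c, hc⟩ := hP₁.corner ((domCongr ℂ ℂ e).symm x)
          refine ⟨c, ?_⟩
          have := congrArg (domCongr ℂ ℂ e) hc
          rwa [map_mul, map_mul, AlgEquiv.apply_symm_apply, map_smul] at this }
    refine ⟨domCongr ℂ ℂ t Q₁, ⟨R, hRr, hR⟩,
      fun g hg => by rw [hR]; exact coeff_map_of_notMem R hg, fun s hs => ?_⟩
    have hcomp : ∀ f g : MulAut E, domCongr ℂ ℂ f (domCongr ℂ ℂ g Q₁) = domCongr ℂ ℂ (f * g) Q₁ :=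
      fun f g => (DFunLike.congr_fun (map_mul (domCongrAut (R := ℂ) (A := ℂ) (M := E)) f g) Q₁).symm
    rcases hS s hs with hsU | ⟨hsUV, hsVU⟩
    · refine Or.inl ⟨hfixQ s hs hsU, ?_⟩
      rw [hcomp, show s * t = t * (t⁻¹ * s * t) by group, ← hcomp, hfixQ]
      · exact S.mul_mem (S.mul_mem (S.inv_mem htS) hs) htS
      · intro x hx
        have h1 : s (t x) ∈ V := hstabV s hsU _ (htUV x hx)
        obtain ⟨u, hu⟩ := e.surjective ⟨_, h1⟩
        show t⁻¹ (s (t x)) ∈ U
        rw [← show t (u : E) = s (t x) from congrArg Subtype.val hu, MulAut.inv_apply_self]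
        exact u.2
    · refine Or.inr ⟨?_, ?_⟩
      · rw [show s = t * (t⁻¹ * s) by group, ← hcomp, hfixQ]
        · exact S.mul_mem (S.inv_mem htS) hs
        · intro x hx
          obtain ⟨u, hu⟩ := e.surjective ⟨_, hsUV x hx⟩
          show t⁻¹ (s x) ∈ U
          rw [← show t (u : E) = s x from congrArg Subtype.val hu, MulAut.inv_apply_self]
          exact u.2
      · rw [hcomp, hfixQ]
        · exact S.mul_mem hs htS
        · exact fun x hx => hsVU _ (htUV x hx)
  obtain ⟨P₂', hP₂', rfl⟩ := hQ₂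
  have hcomm : ∀ (a : ℂ[U]) (b : ℂ[V]), mapDomainAlgHom ℂ ℂ U.subtype a * mapDomainAlgHom ℂ ℂ V.subtype b =
      mapDomainAlgHom ℂ ℂ V.subtype b * mapDomainAlgHom ℂ ℂ U.subtype a := fun a b =>
    commute_map (fun u hu => (commute_map (fun v hv => by
      rw [← map_mul (of ℂ E), ← map_mul (of ℂ E), (hV v).mp hv u hu]) b).symm) a
  set Q₂ := mapDomainAlgHom ℂ ℂ V.subtype P₂' with hQ₂
  have hQC : Q₁ * Q₂ = Q₂ * Q₁ := hcomm _ _
  have hzmap : ∀ {W : Subgroup E} (h : z ∈ W) {R : ℂ[W]}, RankOne (⟨z, h⟩ : W) R →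
      of ℂ E z * mapDomainAlgHom ℂ ℂ W.subtype R = -mapDomainAlgHom ℂ ℂ W.subtype R := by
    intro W h R hR
    have := congrArg (mapDomainAlgHom ℂ ℂ W.subtype) hR.minus
    rw [map_mul, map_neg, MonoidAlgebra.of_apply] at this
    simpa using this
  have hcoef : ∀ {W : Subgroup E} (h : z ∈ W) (R : ℂ[W]),
      (mapDomainAlgHom ℂ ℂ W.subtype R).coeff 1 = R.coeff 1 := by
    intro W h R
    induction R using MonoidAlgebra.induction_linear with
    | zero => simp
    | add a b ha hb => rw [map_add, coeff_add, Finsupp.add_apply, ha, hb, coeff_add, Finsupp.add_apply]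
    | single g r => simp [Finsupp.single_apply]
  have hz2 : ∀ R : ℂ[E], of ℂ E z * R = -R → R.coeff z = -R.coeff 1 := fun R hR => by
    have := congrArg (fun x : ℂ[E] => x.coeff z) hR
    rw [MonoidAlgebra.of_apply] at this
    simp only [coeff_neg, Finsupp.neg_apply] at this
    rw [coeff_single_mul_eq_mul_coeff 1 (fun m _ => ⟨fun e => mul_left_cancel (e.trans (mul_one z).symm),
      fun e => by rw [e, mul_one]⟩), one_mul] at this
    rw [this, neg_neg]
  refine ⟨Q₁ * Q₂, ⟨fun h0 => ?_, ?_, ?_, ?_, corner_of_group fun g => ?_⟩, fun s hs => ?_⟩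
  · have h1 := congrArg (fun x : ℂ[E] => x.coeff 1) h0
    simp only [coeff_zero, Finsupp.zero_apply] at h1
    haveI := Fintype.ofFinite U
    haveI := Fintype.ofFinite V
    rw [coeff_mul_one, Fintype.sum_eq_add 1 z hE.ne_one.symm] at h1
    · rw [inv_one, hE.inv_z, hz2 _ (hzmap hz hP₁), hz2 _ (hzmap hzV hP₂'), hcoef hz, hcoef hzV] at h1
      have h2 : (2 : ℂ) * (P₁.coeff 1 * P₂'.coeff 1) = 0 := by rw [← h1]; ring
      simp [hP₁.coeff_one_ne_zero, hP₂'.coeff_one_ne_zero] at h2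
    · intro g hg
      by_cases hgU : g ∈ U
      · rw [hsupp g⁻¹ (fun h => by
          rcases hUV g hgU (by simpa using V.inv_mem h) with r | r
          · exact hg.1 r
          · exact hg.2 r), mul_zero]
      · rw [coeff_map_of_notMem P₁ hgU, zero_mul]
  · rw [adj_mul, adj_map, adj_map, hP₁.adj_eq, hP₂'.adj_eq, ← hQC]
  · rw [← mul_assoc, hzmap hz hP₁, neg_mul]
  · rw [mul_assoc, ← mul_assoc Q₂, ← hQC, mul_assoc Q₁ Q₂, hQ₂, ← map_mul, hP₂'.idem, ← mul_assoc]
    show mapDomainAlgHom ℂ ℂ U.subtype P₁ * mapDomainAlgHom ℂ ℂ U.subtype P₁ * _ = _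
    rw [← map_mul (mapDomainAlgHom ℂ ℂ U.subtype), hP₁.idem]
  · obtain ⟨u, hu, v, hv, rfl⟩ := hdec g
    obtain ⟨c, hc⟩ := hP₁.corner (of ℂ U ⟨u, hu⟩)
    obtain ⟨d, hd⟩ := hP₂'.corner (of ℂ V ⟨v, hv⟩)
    refine ⟨c * d, ?_⟩
    have hmap : ∀ {W : Subgroup E} (w : W) (r : ℂ),
        mapDomainAlgHom ℂ ℂ W.subtype (single w r) = single (w : E) r := fun w r => by simp
    have hc' := congrArg (mapDomainAlgHom ℂ ℂ U.subtype) hc
    have hd' := congrArg (mapDomainAlgHom ℂ ℂ V.subtype) hd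
    rw [map_mul, map_mul, map_smul, MonoidAlgebra.of_apply, hmap] at hc'
    rw [map_mul, map_mul, map_smul, MonoidAlgebra.of_apply, hmap] at hd'
    change Q₁ * of ℂ E u * Q₁ = c • Q₁ at hc'
    change Q₂ * of ℂ E v * Q₂ = d • Q₂ at hd'
    have e1 : Q₂ * of ℂ E u = of ℂ E u * Q₂ := by
      have := hcomm (of ℂ U ⟨u, hu⟩) P₂'
      rw [MonoidAlgebra.of_apply, hmap] at this
      exact this.symm
    have e2 : of ℂ E v * Q₁ = Q₁ * of ℂ E v := by
      have := hcomm P₁ (of ℂ V ⟨v, hv⟩)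
      rw [MonoidAlgebra.of_apply, hmap] at this
      exact this.symm
    calc Q₁ * Q₂ * of ℂ E (u * v) * (Q₁ * Q₂)
        = Q₁ * (Q₂ * of ℂ E u) * (of ℂ E v * Q₁) * Q₂ := by
          rw [map_mul]; simp only [mul_assoc]
      _ = Q₁ * of ℂ E u * (Q₂ * Q₁) * of ℂ E v * Q₂ := by
          rw [e1, e2]; simp only [mul_assoc]
      _ = (Q₁ * of ℂ E u * Q₁) * (Q₂ * of ℂ E v * Q₂) := by
          rw [← hQC]; simp only [mul_assoc]
      _ = (c * d) • (Q₁ * Q₂) := by
          rw [hc', hd', Algebra.smul_mul_assoc, Algebra.mul_smul_comm, smul_smul]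
  · rw [map_mul]
    rcases hperm s hs with ⟨h1, h2⟩ | ⟨h1, h2⟩
    · rw [h1, h2]
    · rw [h1, h2, ← hQC]

include hE in
/-- Two complementary singular subgroups interchanged by the two-group. -/
theorem good_of_pair (hAS : Acts z A S) (U U' : Subgroup E) (hz : z ∈ U) (hz' : z ∈ U')
    (hab : ∀ x ∈ U, ∀ y ∈ U, x * y = y * x) (hab' : ∀ x ∈ U', ∀ y ∈ U', x * y = y * x)
    (hel : ∀ x ∈ U, x * x = 1) (hel' : ∀ x ∈ U', x * x = 1)
    (hAU : ∀ a ∈ A, ∀ x ∈ U, a x ∈ U) (hAU' : ∀ a ∈ A, ∀ x ∈ U', a x ∈ U')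
    (hdec : ∀ x, ∃ u ∈ U, ∃ v ∈ U', x = u * v) (hmeet : ∀ x, x ∈ U → x ∈ U' → x = 1 ∨ x = z)
    (hS : ∀ s ∈ S, ((∀ x ∈ U, s x ∈ U) ∧ ∀ x ∈ U', s x ∈ U') ∨
      ((∀ x ∈ U, s x ∈ U') ∧ ∀ x ∈ U', s x ∈ U)) : Good z S := by
  classical
  haveI := Fintype.ofFinite E
  haveI := Fintype.ofFinite U
  haveI := Fintype.ofFinite U'
  obtain ⟨χ, hχ, hχA⟩ := exists_inv_char hE A hAS.odd hz hab hel hAU
  obtain ⟨χ', hχ', hχA'⟩ := exists_inv_char hE A hAS.odd hz' hab' hel' hAU'
  have hcen : ∀ x, (∀ u ∈ U, u * x = x * u) → x ∈ U := fun x hx => by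
    obtain ⟨u, hu, v, hv, rfl⟩ := hdec x
    refine U.mul_mem hu ?_
    have hc : v = 1 ∨ v = z := hE.centre v fun y => by
      obtain ⟨a, ha, b, hb, rfl⟩ := hdec y
      have h1 : a * v = v * a := by
        have := hx a ha
        rw [← mul_assoc, hab a ha u hu, mul_assoc, mul_assoc] at this
        exact mul_left_cancel this
      rw [← mul_assoc, ← h1, mul_assoc, hab' v hv b hb, ← mul_assoc]
    rcases hc with r | r
    · rw [r]; exact U.one_mem
    · rw [r]; exact hz
  have hcen' : ∀ x, (∀ u ∈ U', u * x = x * u) → x ∈ U' := fun x hx => by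
    obtain ⟨u, hu, v, hv, rfl⟩ := hdec x
    refine U'.mul_mem ?_ hv
    have hc : u = 1 ∨ u = z := hE.centre u fun y => by
      obtain ⟨a, ha, b, hb, rfl⟩ := hdec y
      have h1 : b * u = u * b := by
        have := hx b hb
        rw [mul_assoc u v b, ← hab' b hb v hv, ← mul_assoc, ← mul_assoc] at this
        exact mul_right_cancel this
      rw [← mul_assoc, hab u hu a ha, mul_assoc, ← h1, ← mul_assoc]
    rcases hc with r | r
    · rw [r]; exact U'.one_mem
    · rw [r]; exact hz'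
  have hP := rankOne_eChar χ hE hz hχ hcen
  have hQ := rankOne_eChar χ' hE hz' hχ' hcen'
  set P := eChar χ
  set R := eChar χ'
  have hfixP : ∀ s ∈ S, (∀ x ∈ U, s x ∈ U) → domCongr ℂ ℂ s P = P := fun s hs h =>
    domCongr_eChar χ s (inv_char_fixed hE A hAS.odd hAS.fix hz hab hel hAU hχ hχA s (hAS.norm s hs) h)
  have hfixR : ∀ s ∈ S, (∀ x ∈ U', s x ∈ U') → domCongr ℂ ℂ s R = R := fun s hs h =>
    domCongr_eChar χ' s
      (inv_char_fixed hE A hAS.odd hAS.fix hz' hab' hel' hAU' hχ' hχA' s (hAS.norm s hs) h)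
  by_cases hall : ∀ s ∈ S, ∀ x ∈ U, s x ∈ U
  · exact ⟨P, hP, fun s hs => hfixP s hs (hall s hs)⟩
  push Not at hall
  obtain ⟨t, htS, x₀, hx₀, htx₀⟩ := hall
  obtain ⟨htU, htU'⟩ := (hS t htS).resolve_left fun h => htx₀ (h.1 x₀ hx₀)
  have hcard : Fintype.card U = Fintype.card U' := le_antisymm
    (Fintype.card_le_of_injective (fun u : U => (⟨t (u : E), htU (u : E) u.2⟩ : U'))
      fun a b h => Subtype.ext (t.injective (congrArg Subtype.val h)))
    (Fintype.card_le_of_injective (fun u : U' => (⟨t (u : E), htU' (u : E) u.2⟩ : U))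
      fun a b h => Subtype.ext (t.injective (congrArg Subtype.val h)))
  have hswap : ∀ s ∈ S, (∀ x ∈ U, s x ∈ U') → domCongr ℂ ℂ s P = R := by
    intro s hs h
    let f : U →* U' := MonoidHom.mk' (fun u : U => (⟨s (u : E), h (u : E) u.2⟩ : U')) fun a b =>
      Subtype.ext (map_mul s (a : E) (b : E))
    have key : χ'.comp f = χ := by
      refine inv_char_unique hE A hAS.odd hAS.fix hz hab hel hAU ?_ hχ (fun a ha u => ?_) hχA
      · rw [MonoidHom.comp_apply, show f ⟨z, hz⟩ = ⟨z, hz'⟩ from Subtype.ext (hE.auto_fix s), hχ']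
      · obtain ⟨hm, he⟩ := hχA' _ (hAS.norm s hs a ha) (f u)
        refine ⟨hAU a ha (u : E) u.2, ?_⟩
        show χ' (f ⟨a (u : E), _⟩) = χ' (f u)
        rw [← he]
        refine congrArg χ' (Subtype.ext ?_)
        show s (a (u : E)) = (s * a * s⁻¹) (s (u : E))
        simp [MulAut.mul_apply]
    exact domCongr_eChar_to χ χ' s hcard fun u => ⟨h (u : E) u.2, DFunLike.congr_fun key u⟩
  have hswap' : ∀ s ∈ S, (∀ x ∈ U', s x ∈ U) → domCongr ℂ ℂ s R = P := by
    intro s hs h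
    let f : U' →* U := MonoidHom.mk' (fun u : U' => (⟨s (u : E), h (u : E) u.2⟩ : U)) fun a b =>
      Subtype.ext (map_mul s (a : E) (b : E))
    have key : χ.comp f = χ' := by
      refine inv_char_unique hE A hAS.odd hAS.fix hz' hab' hel' hAU' ?_ hχ' (fun a ha u => ?_) hχA'
      · rw [MonoidHom.comp_apply, show f ⟨z, hz'⟩ = ⟨z, hz⟩ from Subtype.ext (hE.auto_fix s), hχ]
      · obtain ⟨hm, he⟩ := hχA _ (hAS.norm s hs a ha) (f u)
        refine ⟨hAU' a ha (u : E) u.2, ?_⟩
        show χ (f ⟨a (u : E), _⟩) = χ (f u)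
        rw [← he]
        refine congrArg χ (Subtype.ext ?_)
        show s (a (u : E)) = (s * a * s⁻¹) (s (u : E))
        simp [MulAut.mul_apply]
    exact domCongr_eChar_to χ' χ s hcard.symm fun u => ⟨h (u : E) u.2, DFunLike.congr_fun key u⟩
  -- the scalar
  obtain ⟨l, hl⟩ := hP.corner R
  have hPR : P * R ≠ 0 := by
    intro h0
    have h1 := congrArg (fun x : ℂ[E] => x.coeff 1) h0
    simp only [coeff_zero, Finsupp.zero_apply] at h1
    have hsupp : ∀ {W : Subgroup E} [Fintype W] (ψ : W →* ℂˣ), ∀ g, (eChar ψ).coeff g ≠ 0 → g ∈ W := by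
      intro W _ ψ g hg
      by_contra hgW
      apply hg
      rw [eChar, coeff_smul, Finsupp.smul_apply, coeff_sum, Finsupp.finsetSum_apply,
        Finset.sum_eq_zero, smul_zero]
      intro u _
      have : (u : E) ≠ g := fun h => hgW (h ▸ u.2)
      simp [this]
    rw [coeff_mul_of_support hP hQ hE fun g hg hg' => hmeet g (hsupp χ g hg)
      (by simpa using U'.inv_mem (hsupp χ' _ hg'))] at h1
    simp [hP.coeff_one_ne_zero, hQ.coeff_one_ne_zero] at h1
  obtain ⟨r, hr, hre⟩ := coeff_mul_adj_pos hPR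
  rw [adj_mul, hP.adj_eq, hQ.adj_eq, mul_assoc, ← mul_assoc R, hQ.idem, ← mul_assoc, hl,
    coeff_smul, Finsupp.smul_apply, smul_eq_mul] at hre
  obtain ⟨p, hp, hpe⟩ := hP.coeff_one_pos
  have hlr : l = ((r / p : ℝ) : ℂ) := by
    rw [hpe] at hre
    rw [Complex.ofReal_div, eq_div_iff (by exact_mod_cast hp.ne'), hre]
  have hl' : R * P * R = l • R := by
    have h1 : domCongr ℂ ℂ t P = R := hswap t htS htU
    have h2 : domCongr ℂ ℂ t R = P := hswap' t htS htU'
    have := congrArg (domCongr ℂ ℂ t) hl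
    rwa [map_mul, map_mul, map_smul, h1, h2] at this
  set γ : ℂ := ((Real.sqrt (r / p) : ℝ) : ℂ) with hγ
  have hγ0 : γ ≠ 0 := by
    rw [hγ]; exact_mod_cast (Real.sqrt_pos.mpr (div_pos hr hp)).ne'
  have hγ2 : γ * γ = l := by
    rw [hγ, hlr, ← Complex.ofReal_mul, Real.mul_self_sqrt (div_pos hr hp).le]
  have hγ1 : (1 : ℂ) + γ ≠ 0 := by
    rw [hγ]
    exact_mod_cast (by positivity : (0 : ℝ) < 1 + Real.sqrt (r / p)).ne'
  let w : ℂ[E] := (1 + γ⁻¹ • R) * P
  have hwP : w * P = w := by rw [show w = (1 + γ⁻¹ • R) * P from rfl, mul_assoc, hP.idem]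
  have hw0 : w ≠ 0 := by
    intro h0
    have h1 : P * w = (1 + γ) • P := by
      show P * ((1 + γ⁻¹ • R) * P) = _
      rw [← mul_assoc, mul_add, mul_one, Algebra.mul_smul_comm, add_mul, hP.idem,
        Algebra.smul_mul_assoc, hl, smul_smul, ← hγ2, ← mul_assoc, inv_mul_cancel₀ hγ0, one_mul,
        add_smul, one_smul]
    rw [h0, mul_zero] at h1
    exact hP.ne_zero ((smul_eq_zero.mp h1.symm).resolve_left hγ1)
  obtain ⟨k, hk, hR'⟩ := RankOne.of_vec hE.central hP hw0 hwP
  have hexpand : ∀ (X Y : ℂ[E]), X * X = X → X * Y * X = l • X → Y * X * Y = l • Y →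
      (1 + γ⁻¹ • Y) * X * (1 + γ⁻¹ • Y) = X + γ⁻¹ • (X * Y + Y * X) + Y := by
    intro X Y hX h1 h2
    simp only [add_mul, mul_add, one_mul, mul_one, Algebra.smul_mul_assoc, Algebra.mul_smul_comm,
      smul_smul, smul_add, h2, show γ⁻¹ * (γ⁻¹ * l) = 1 by rw [← hγ2]; field_simp, one_smul]
    abel
  have hww : w * adj w = P + γ⁻¹ • (P * R + R * P) + R := by
    rw [← hexpand P R hP.idem hl hl']
    show (1 + γ⁻¹ • R) * P * adj ((1 + γ⁻¹ • R) * P) = _
    rw [adj_mul, map_add, adj_smul, hP.adj_eq, hQ.adj_eq,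
      show (conj γ⁻¹) = γ⁻¹ by rw [hγ, ← Complex.ofReal_inv, Complex.conj_ofReal],
      show adj (1 : ℂ[E]) = 1 by rw [MonoidAlgebra.one_def, adj_single, inv_one, map_one],
      mul_assoc, ← mul_assoc P, hP.idem, ← mul_assoc]
  refine ⟨_, hR', fun s hs => ?_⟩
  rw [map_smul, hww]
  congr 1
  rw [map_add, map_add, map_smul, map_add, map_mul, map_mul]
  rcases hS s hs with ⟨h1, h2⟩ | ⟨h1, h2⟩
  · rw [hfixP s hs h1, hfixR s hs h2]
  · rw [hswap s hs h1, hswap' s hs h2, add_comm (R * P)]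
    abel

include hE in
/-- A cyclic group of automorphisms fixes a rank one idempotent. -/
theorem good_of_cyclic [IsCyclic S] : Good z S := by
  classical
  haveI := Fintype.ofFinite E
  -- a maximal abelian subgroup
  obtain ⟨U, hU, hmax⟩ := Set.Finite.exists_maximal (Set.toFinite
    {U : Subgroup E | z ∈ U ∧ ∀ x ∈ U, ∀ y ∈ U, x * y = y * x})
    ⟨Subgroup.zpowers z, Subgroup.mem_zpowers z, by
      rintro _ ⟨i, rfl⟩ _ ⟨j, rfl⟩
      rw [← zpow_add, add_comm, zpow_add]⟩
  have hcen : ∀ x, (∀ u ∈ U, u * x = x * u) → x ∈ U := by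
    intro x hx
    have hgen : ∀ a ∈ (U : Set E) ∪ {x}, ∀ b ∈ (U : Set E) ∪ {x}, a * b = b * a := by
      rintro a (ha | rfl) b (hb | rfl)
      · exact hU.2 a ha b hb
      · exact hx a ha
      · exact (hx b hb).symm
      · rfl
    have h1 : Subgroup.closure ((U : Set E) ∪ {x}) ∈
        {U : Subgroup E | z ∈ U ∧ ∀ x ∈ U, ∀ y ∈ U, x * y = y * x} := by
      refine ⟨Subgroup.subset_closure (Or.inl hU.1), fun a ha b hb => ?_⟩
      haveI := Subgroup.isMulCommutative_closure hgen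
      exact congrArg Subtype.val (IsMulCommutative.is_comm.comm
        (⟨a, ha⟩ : Subgroup.closure ((U : Set E) ∪ {x})) ⟨b, hb⟩)
    exact hmax h1 (fun u hu => Subgroup.subset_closure (Or.inl hu))
      (Subgroup.subset_closure (Or.inr rfl))
  haveI := Fintype.ofFinite U
  obtain ⟨χ, hχ⟩ := exists_char U hU.1 hU.2 hE.ne_one hE.sq_z
  have hP := rankOne_eChar χ hE hU.1 hχ hcen
  set P := eChar χ
  obtain ⟨s, hs⟩ := IsCyclic.exists_generator (α := S)
  let σ : ℂ[E] ≃ₐ[ℂ] ℂ[E] := domCongr ℂ ℂ (s : MulAut E)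
  have hQ : RankOne z (σ P) := hP.domCongr (s : MulAut E) (hE.auto_fix (s : MulAut E))
  -- the two idempotents are linked
  obtain ⟨g, hg⟩ : ∃ g : E, σ P * of ℂ E g * P ≠ 0 := by
    by_contra hall
    push Not at hall
    set K : ℂ[E] := ∑ g : E, of ℂ E g * P * of ℂ E g⁻¹ with hK
    have hQK : σ P * K = 0 := by
      rw [hK, Finset.mul_sum]
      refine Finset.sum_eq_zero fun g _ => ?_
      rw [← mul_assoc, ← mul_assoc, hall g, zero_mul]
    have hconjK : ∀ y, of ℂ E y * K * of ℂ E y⁻¹ = K := fun y => by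
      rw [hK, Finset.mul_sum, Finset.sum_mul]
      refine Fintype.sum_equiv (Equiv.mulLeft y) _ _ fun g => ?_
      rw [Equiv.coe_mulLeft, mul_inv_rev, map_mul, map_mul]
      simp only [mul_assoc]
    have hco : ∀ x y, K.coeff (y * x * y⁻¹) = K.coeff x := fun x y => by
      conv_lhs => rw [← hconjK y]
      rw [MonoidAlgebra.of_apply, MonoidAlgebra.of_apply,
        coeff_mul_single_eq_coeff_mul (y * x) (fun m _ => ⟨fun e => by
          rw [← mul_inv_eq_iff_eq_mul, inv_inv] at e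
          rw [← e]; group, fun e => by rw [e]⟩), mul_one,
        coeff_single_mul_eq_mul_coeff x (fun m _ => ⟨fun e => mul_left_cancel e, fun e => by rw [e]⟩),
        one_mul]
    have hzK : of ℂ E z * K = -K := by
      rw [hK, Finset.mul_sum, ← Finset.sum_neg_distrib]
      refine Finset.sum_congr rfl fun g _ => ?_
      rw [← mul_assoc, ← mul_assoc, of_comm hE.central (of ℂ E g), mul_assoc (of ℂ E g), hP.minus,
        mul_neg, neg_mul]
    have hzco : ∀ x, K.coeff (z * x) = -K.coeff x := fun x => by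
      have := congrArg (fun y : ℂ[E] => y.coeff (z * x)) hzK
      rw [MonoidAlgebra.of_apply] at this
      simp only [coeff_neg, Finsupp.neg_apply] at this
      rw [coeff_single_mul_eq_mul_coeff x (fun m _ => ⟨fun e => mul_left_cancel e,
        fun e => by rw [e]⟩), one_mul] at this
      rw [this, neg_neg]
    have hK1 : K = K.coeff 1 • (1 - of ℂ E z) := by
      refine MonoidAlgebra.ext (Finsupp.ext fun x => ?_)
      by_cases hx1 : x = 1
      · subst hx1
        simp [hE.ne_one, MonoidAlgebra.one_def]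
      by_cases hxz : x = z
      · subst hxz
        have := hzco 1
        rw [mul_one] at this
        simp [this, hE.ne_one, Ne.symm hE.ne_one, MonoidAlgebra.one_def]
      · have h0 : K.coeff x = 0 := by
          obtain ⟨y, hy⟩ : ∃ y, y * x ≠ x * y := by
            by_contra hh
            push Not at hh
            rcases hE.centre x (fun y => (hh y).symm) with r | r
            · exact hx1 r
            · exact hxz r
          have e : y * x * y⁻¹ = z * x := by
            rw [(hE.comm y x).resolve_left hy, ← hE.central (x * y), mul_assoc, mul_assoc,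
              mul_inv_cancel, mul_one]
          have := hco x y
          rw [e, hzco] at this
          have h2 : (2 : ℂ) * K.coeff x = 0 := by linear_combination -this
          simpa using h2
        simp [h0, Ne.symm hx1, Ne.symm hxz, MonoidAlgebra.one_def]
    have hK0 : K.coeff 1 ≠ 0 := by
      have : K.coeff 1 = (Fintype.card E : ℂ) * P.coeff 1 := by
        rw [hK, coeff_sum, Finsupp.finsetSum_apply, Finset.sum_congr rfl (g := fun _ => P.coeff 1)
          (fun g _ => by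
            rw [coeff_mul_comm_one, ← mul_assoc, ← map_mul, inv_mul_cancel, map_one (of ℂ E), one_mul]),
          Finset.sum_const, Finset.card_univ, nsmul_eq_mul]
      rw [this]
      exact mul_ne_zero (by exact_mod_cast Fintype.card_ne_zero) hP.coeff_one_ne_zero
    rw [hK1, Algebra.mul_smul_comm, mul_sub, mul_one, ← of_comm hE.central, hQ.minus, sub_neg_eq_add,
      smul_eq_zero] at hQK
    rcases hQK with r | r
    · exact hK0 r
    · rw [← two_smul ℂ, smul_eq_zero] at r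
      rcases r with r | r
      · norm_num at r
      · exact hQ.ne_zero r
  obtain ⟨w₀, hw₀⟩ : ∃ w : ℂ[E], w = σ P * of ℂ E g * P := ⟨_, rfl⟩
  have hw₀P : w₀ * P = w₀ := by rw [hw₀, mul_assoc, hP.idem]
  have hPw₀ : P * adj w₀ = adj w₀ := by
    have := congrArg adj hw₀P
    rwa [adj_mul, hP.adj_eq] at this
  obtain ⟨c, hc⟩ := hQ.corner (of ℂ E g * P * of ℂ E g⁻¹)
  have hww : w₀ * adj w₀ = c • σ P := by
    rw [← hc, hw₀, adj_mul, adj_mul, adj_of, hP.adj_eq, hQ.adj_eq]
    simp only [mul_assoc]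
    rw [← mul_assoc P P, hP.idem]
  have hc0 : c ≠ 0 := by
    obtain ⟨r, hr, hre⟩ := coeff_mul_adj_pos (hw₀ ▸ hg : w₀ ≠ 0)
    rw [hww, coeff_smul, Finsupp.smul_apply, smul_eq_mul] at hre
    intro h0
    rw [h0, zero_mul] at hre
    exact hr.ne' (by exact_mod_cast hre.symm)
  obtain ⟨d, hd⟩ := hP.corner (adj w₀ * w₀)
  have hd' : adj w₀ * w₀ = d • P := by
    rw [← hd, ← mul_assoc, hPw₀, mul_assoc, hw₀P]
  -- the intertwiner on the left ideal
  let M : Submodule ℂ ℂ[E] :=
    { carrier := {x | x * P = x}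
      zero_mem' := zero_mul P
      add_mem' := fun {a b} ha hb => by show (a + b) * P = a + b; rw [add_mul, ha, hb]
      smul_mem' := fun r a ha => by show r • a * P = r • a; rw [Algebra.smul_mul_assoc, ha] }
  haveI : FiniteDimensional ℂ ℂ[E] :=
    Module.Finite.equiv (MonoidAlgebra.coeffLinearEquiv ℂ : ℂ[E] ≃ₗ[ℂ] _).symm
  haveI : Nontrivial M := ⟨⟨⟨P, hP.idem⟩, 0, fun h => hP.ne_zero (congrArg Subtype.val h)⟩⟩
  let T : Module.End ℂ M :=
    { toFun := fun x => ⟨σ (x : ℂ[E]) * w₀, show σ (x : ℂ[E]) * w₀ * P = _ by rw [mul_assoc, hw₀P]⟩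
      map_add' := fun a b => Subtype.ext (by simp [add_mul])
      map_smul' := fun r a => Subtype.ext (by simp) }
  obtain ⟨μ, hμ⟩ := Module.End.exists_eigenvalue T
  obtain ⟨v, hv⟩ := hμ.exists_hasEigenvector
  have hv0 : (v : ℂ[E]) ≠ 0 := fun h => hv.2 (Subtype.ext h)
  have hvP : (v : ℂ[E]) * P = v := v.2
  have hTv : σ (v : ℂ[E]) * w₀ = μ • (v : ℂ[E]) := congrArg Subtype.val hv.apply_eq_smul
  have hσv : σ (v : ℂ[E]) = (μ / c) • ((v : ℂ[E]) * adj w₀) := by
    have h1 : σ (v : ℂ[E]) * w₀ * adj w₀ = c • σ (v : ℂ[E]) := by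
      rw [mul_assoc, hww, Algebra.mul_smul_comm, ← map_mul σ, hvP]
    rw [hTv, Algebra.smul_mul_assoc] at h1
    rw [div_eq_inv_mul, ← smul_smul, h1, smul_smul, inv_mul_cancel₀ hc0, one_smul]
  obtain ⟨κ, hκ⟩ : ∃ κ : ℂ, σ ((v : ℂ[E]) * adj (v : ℂ[E])) = κ • ((v : ℂ[E]) * adj (v : ℂ[E])) := by
    refine ⟨μ / c * conj (μ / c) * d, ?_⟩
    rw [map_mul, show σ (adj (v : ℂ[E])) = adj (σ (v : ℂ[E])) from (adj_domCongr _ _).symm, hσv,
      adj_smul, adj_mul, adj_adj, Algebra.smul_mul_assoc, Algebra.mul_smul_comm, smul_smul]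
    rw [show (v : ℂ[E]) * adj w₀ * (w₀ * adj (v : ℂ[E])) =
      (v : ℂ[E]) * (adj w₀ * w₀) * adj (v : ℂ[E]) by simp only [mul_assoc]]
    rw [hd', Algebra.mul_smul_comm, hvP, Algebra.smul_mul_assoc, smul_smul]
  have hκ1 : κ = 1 := by
    obtain ⟨r, hr, hre⟩ := coeff_mul_adj_pos hv0
    have h1 := congrArg (fun x : ℂ[E] => x.coeff 1) hκ
    simp only [σ, coeff_domCongr_one, coeff_smul, Finsupp.smul_apply, hre, smul_eq_mul] at h1
    exact (mul_eq_right₀ (by exact_mod_cast hr.ne')).mp h1.symm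
  obtain ⟨k, hk, hR⟩ := RankOne.of_vec hE.central hP hv0 hvP
  refine ⟨_, hR, fun f hf => ?_⟩
  have hfix : ∀ x : S, domCongr ℂ ℂ (x : MulAut E) ((k : ℂ) • ((v : ℂ[E]) * adj (v : ℂ[E]))) =
      (k : ℂ) • ((v : ℂ[E]) * adj (v : ℂ[E])) := by
    intro x
    set R := (k : ℂ) • ((v : ℂ[E]) * adj (v : ℂ[E]))
    let K : Subgroup S := (MulAction.stabilizer (ℂ[E] ≃ₐ[ℂ] ℂ[E]) R).comap
      ((domCongrAut (R := ℂ) (A := ℂ) (M := E)).comp S.subtype)
    have hsK : s ∈ K := by
      show σ R = R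
      simp only [R, map_smul, hκ, hκ1, one_smul]
    exact Subgroup.zpowers_le.mpr hsK (hs x)
  exact hfix ⟨f, hf⟩

end

end Cfsg.Lib.Char.StableLine
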